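import Groth.Agent.Lib.FCat7.Kernels
import Groth.Agent.Lib.FCat7.FiveLemma
import Groth.Agent.Lib.FCat7.Crit
import Groth.Agent.Lib.FCat7.QcohFT
import Groth.Agent.Lib.FCat7.TorsClosed
import Groth.Agent.Lib.Cohom.LinearLES
import Groth.Prelude.Def_WeakSerre

/-!
# Weak Serre classes of modules on a formal scheme
-/

set_option autoImplicit false
set_option linter.style.haveILetI false
set_option linter.unusedSectionVars false
set_option maxHeartbeats 1000000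
universe u

open CategoryTheory CategoryTheory.Limits AlgebraicGeometry TopologicalSpace Opposite

noncomputable section

namespace GrothLib.RpushD7

open GrothLib.FCat7 GrothLib.FMod7

variable {𝔛 : FSch.Sys.{u}} {h : 𝔛.IsFormal} (hN : 𝔛.IsLocNoethFormal)
include hN

theorem isCohF_of_isQC_finite {M : FSch.ModF 𝔛 h}
    (H : ∀ W : (𝔛.X 0).Opens, IsAffineOpen W → IsQC M W ∧ Module.Finite (Sec 𝔛 h W) (ModSite.sect M W)) :
    FSch.IsCohF 𝔛 h M := by
  refine isCohF_of_presentations fun p => ?_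
  obtain ⟨W, hW, hp, -⟩ := exists_isAffineOpen_mem_and_subset (X := 𝔛.X 0) (x := p) (U := ⊤) trivial
  obtain ⟨hQ, hfin⟩ := H W hW
  refine ⟨W, hp, ?_⟩
  obtain ⟨l, s, hs⟩ := Submodule.fg_iff_exists_fin_generating_family.1 hfin.fg_top
  refine exists_presentation_of_local hN hW s (fun V hV x q hq => ?_) fun V hV y hy q hq => ?_
  · obtain ⟨W', hW', hqW', hm⟩ := hQ.gen V hV x q hq
    refine ⟨W', hW', hqW', Submodule.span_le.2 ?_ hm⟩
    rintro _ ⟨t, rfl⟩
    obtain ⟨c, hc⟩ := (Submodule.mem_span_range_iff_exists_fun _).1 (hs ▸ Submodule.mem_top : t ∈ Submodule.span _ (Set.range s))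
    show sres _ (hW'.trans hV) t ∈ Submodule.span (Sec 𝔛 h W') _
    rw [← hc, sres_sum]
    exact Submodule.sum_mem _ fun i _ => Submodule.smul_mem _ _ (Submodule.subset_span ⟨i, rfl⟩)
  · obtain ⟨W', hW', hqW', hm⟩ := hQ.rel (ULift.{u} (Fin l)) (fun i => s i.down) V hV (fun i => y i.down)
      ((Equiv.ulift.sum_comp fun i => y i • sres _ hV (s i)).trans hy) q hq
    refine ⟨W', hW', hqW', ?_⟩
    let L : (ULift.{u} (Fin l) → Sec 𝔛 h W') →ₗ[Sec 𝔛 h W'] (Fin l → Sec 𝔛 h W') :=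
      LinearMap.funLeft _ _ ULift.up
    have h1 := Submodule.mem_map_of_mem (f := L) hm
    rw [Submodule.map_span] at h1
    refine Submodule.span_mono ?_ h1
    rintro _ ⟨_, ⟨b, hb, rfl⟩, rfl⟩
    exact ⟨fun i => b ⟨i⟩, (Equiv.ulift.symm.sum_comp fun i => b i • s i.down).trans hb, rfl⟩

theorem isCohF_extension {S : ShortComplex (FSch.ModF 𝔛 h)} (hS : S.ShortExact)
    [FSch.IsCohF 𝔛 h S.X₁] [FSch.IsCohF 𝔛 h S.X₃] : FSch.IsCohF 𝔛 h S.X₂ := by
  refine isCohF_of_isQC_finite hN fun W hW => ?_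
  have hA : IsQC S.X₁ W := isQC_of_isCohF hN hW
  have hC : IsQC S.X₃ W := isQC_of_isCohF hN hW
  refine ⟨hA.extension hN hS hW hC, ?_⟩
  haveI := isNoetherianRing_Sec (h := h) hN hW
  haveI := moduleFinite_sect (F := S.X₁) hN hW
  haveI := moduleFinite_sect (F := S.X₃) hN hW
  haveI := hS.mono_f
  refine Cohom.moduleFinite_of_exact (f := sHom S.f W) (g := sHom S.g W) fun b => ⟨fun hb => ?_, ?_⟩
  · obtain ⟨q, hq⟩ := exists_kernel_sect S.g W b hb
    let i := hS.fIsKernel.conePointUniqueUpToIso (kernelIsKernel S.g)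
    refine ⟨sHom i.inv W q, ?_⟩
    refine ((sHom_comp i.inv S.f W q).symm.trans ?_).trans hq
    exact congrArg (fun φ => sHom φ W q)
      (hS.fIsKernel.conePointUniqueUpToIso_inv_comp (kernelIsKernel S.g) WalkingParallelPair.zero)
  · rintro ⟨a, rfl⟩
    exact (sHom_comp S.f S.g W a).symm.trans (sHom_eq_zero S.zero W a)

theorem isCohF_of_iso' {F G : FSch.ModF 𝔛 h} (e : F ≅ G) [FSch.IsCohF 𝔛 h F] : FSch.IsCohF 𝔛 h G := by
  haveI : SheafOfModules.IsQuasicoherent.{u} G := isQuasicoherent_of_iso hN e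
  exact isCohF_of_mono hN e.inv

theorem isCohF_zero : ∃ Z : FSch.ModF 𝔛 h, IsZero Z ∧ FSch.IsCohF 𝔛 h Z := by
  haveI : FSch.IsCohF 𝔛 h (FSch.unitF 𝔛 h) := isCohF_unit
  exact ⟨kernel (𝟙 (FSch.unitF 𝔛 h)), isZero_kernel_of_mono _, isCohF_kernel hN _⟩

/-- Coherent modules form a weak Serre class. -/
theorem isWeakSerre_coh : WSerre.IsWeakSerre (fun G : FSch.ModF 𝔛 h => FSch.IsCohF 𝔛 h G) where
  exists_zero := isCohF_zero hN
  kernels_le := fun K hK => by
    obtain ⟨f, k, hk, hf⟩ := hK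
    haveI : FSch.IsCohF 𝔛 h _ := hf.1
    haveI : FSch.IsCohF 𝔛 h _ := hf.2
    haveI := isCohF_kernel hN f
    exact @isCohF_of_iso' _ _ hN _ _ (IsLimit.conePointUniqueUpToIso (kernelIsKernel f) hk) this
  cokernels_le := fun K hK => by
    obtain ⟨f, k, hk, hf⟩ := hK
    haveI : FSch.IsCohF 𝔛 h _ := hf.1
    haveI : FSch.IsCohF 𝔛 h _ := hf.2
    haveI := isCohF_cokernel hN f
    exact @isCohF_of_iso' _ _ hN _ _ (IsColimit.coconePointUniqueUpToIso (cokernelIsCokernel f) hk) this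
  prop_X₂_of_shortExact := fun {T} hT h₁ h₃ => by
    haveI : FSch.IsCohF 𝔛 h T.X₁ := h₁
    haveI : FSch.IsCohF 𝔛 h T.X₃ := h₃
    exact isCohF_extension hN hT

theorem ind_of_iso {F G : FSch.ModF 𝔛 h} (e : F ≅ G)
    (hF : (ObjectProperty.ind.{u} fun G : FSch.ModF 𝔛 h => FSch.IsCohF 𝔛 h G) F) :
    (ObjectProperty.ind.{u} fun G : FSch.ModF 𝔛 h => FSch.IsCohF 𝔛 h G) G :=
  (ObjectProperty.ind.{u} fun G : FSch.ModF 𝔛 h => FSch.IsCohF 𝔛 h G).prop_of_iso e hF

end GrothLib.RpushD7
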