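import Groth.Agent.Lib.RpushD7.Vanish

/-!
# Existence of cohomological bounds
-/

set_option autoImplicit false
set_option linter.style.haveILetI false
set_option linter.unusedSectionVars false
universe u

open CategoryTheory CategoryTheory.Limits AlgebraicGeometry TopologicalSpace Opposite Abelian

attribute [local instance] HasDerivedCategory.standard

noncomputable section

namespace GrothLib.RpushD7

variable {𝔛 𝔜 : FSch.Sys.{u}} {h : 𝔛.IsFormal}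
  (P : ObjectProperty (FSch.ModF 𝔛 h)) [P.IsClosedUnderIsomorphisms] (f : 𝔛 ⟶ 𝔜)

/-- Sheaves without higher cohomology on affine opens. -/
def affAcyc (X : Scheme.{u}) : ObjectProperty (Cohom.AbSheaf X.toTopCat) := fun F =>
  ∀ W : X.Opens, IsAffineOpen W → ∀ k : ℕ,
    Subsingleton (Ext.{u} ((Cohom.freeFun (T := X.toTopCat)).obj W) F (k + 1))

theorem affAcyc_toAb (hA : Acyc P) (M : FSch.ModF 𝔛 h) (hM : P M) : affAcyc (𝔛.X 0) (ModSite.toAb M) :=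
  fun W hW k => hA M hM W hW k

theorem exists_preBound [NoetherianSpace (𝔛.X 0)] [CompactSpace (𝔜.X 0)] (hA : Acyc P) : ∃ N, PreBound P f N := by
  classical
  choose V hV hyV hVU using fun y : (𝔜.X 0) =>
    exists_isAffineOpen_mem_and_subset (X := 𝔜.X 0) (x := y) (U := ⊤) (Set.mem_univ y)
  obtain ⟨t, ht⟩ := isCompact_univ.elim_finite_subcover (fun y : (𝔜.X 0) => (V y : Set (𝔜.X 0)))
    (fun y => (V y).2) fun y _ => Set.mem_iUnion.2 ⟨y, hyV y⟩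
  choose d hd using fun y : (𝔜.X 0) =>
    bddU_open (affAcyc (𝔛.X 0)) (fun F hF => hF) ((f : FSch.Hom 𝔛 𝔜).app 0 ⁻¹ᵁ V y)
  refine ⟨t.sup d, {W | ∃ y ∈ t, ∃ g : Γ(𝔜.X 0, V y), W = (𝔜.X 0).basicOpen g}, fun U y hy => ?_, ?_⟩
  · obtain ⟨z, hz, hyz⟩ := Set.mem_iUnion₂.1 (ht (Set.mem_univ y))
    obtain ⟨g, hgU, hyg⟩ := (hV z).exists_basicOpen_le (V := U ⊓ V z) ⟨y, hy, hyz⟩ hyz
    exact ⟨_, ⟨z, hz, g, rfl⟩, hyg, hgU.trans inf_le_left⟩
  · rintro W ⟨y, hy, g, rfl⟩ M hM k hk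
    have e : (f : FSch.Hom 𝔛 𝔜).app 0 ⁻¹ᵁ (𝔜.X 0).basicOpen g =
        (𝔛.X 0).basicOpen (((f : FSch.Hom 𝔛 𝔜).app 0).app (V y) g) := Scheme.preimage_basicOpen _ _
    rw [e]
    exact hd y _ (ModSite.toAb M) (affAcyc_toAb P hA M hM) k (lt_of_le_of_lt (Finset.le_sup hy) hk)

theorem preBound_of_isAffineHom [IsAffineHom ((f : FSch.Hom 𝔛 𝔜).app 0)] (hA : Acyc P) : PreBound P f 0 := by
  refine ⟨{W | IsAffineOpen W}, fun U y hy => ?_, fun W hW M hM k hk => ?_⟩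
  · obtain ⟨W, hW, hyW, hWU⟩ := exists_isAffineOpen_mem_and_subset (X := 𝔜.X 0) (x := y) (U := U) hy
    exact ⟨W, hW, hyW, hWU⟩
  · obtain ⟨m, rfl⟩ : ∃ m, k = m + 1 := ⟨k - 1, by omega⟩
    exact hA M hM _ (hW.preimage _) m

theorem acyc_ind (hN : 𝔛.IsLocNoethFormal) :
    Acyc (ObjectProperty.ind.{u} fun G : FSch.ModF 𝔛 h => FSch.IsCohF 𝔛 h G) :=
  fun _ hM _ hW k => FCat7.subsingleton_H'_of_ind hN hM hW k

theorem acyc_coh (hN : 𝔛.IsLocNoethFormal) : Acyc (fun G : FSch.ModF 𝔛 h => FSch.IsCohF 𝔛 h G) :=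
  fun M hM _ hW k => haveI : FSch.IsCohF 𝔛 h M := hM; FCat7.subsingleton_H'_of_isCohF hN (F := M) hW k

end GrothLib.RpushD7
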