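import Groth.Agent.Lib.RpushD7.Classes
import Groth.Agent.Lib.FCat7.ExtInd

/-!
# Ind-coherent modules form a weak Serre class
-/

set_option autoImplicit false
set_option linter.style.haveILetI false
set_option linter.unusedSectionVars false
universe u

open CategoryTheory CategoryTheory.Limits AlgebraicGeometry TopologicalSpace Opposite

noncomputable section

namespace GrothLib.RpushD7

open GrothLib.FCat7

variable {𝔛 : FSch.Sys.{u}} {h : 𝔛.IsFormal} (hN : 𝔛.IsLocNoethFormal)
include hN

/-- Ind-coherent modules on a Noetherian formal scheme form a weak Serre class. -/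
theorem isWeakSerre_ind [CompactSpace (𝔛.X 0)] :
    WSerre.IsWeakSerre (ObjectProperty.ind.{u} fun G : FSch.ModF 𝔛 h => FSch.IsCohF 𝔛 h G) where
  exists_zero := by
    obtain ⟨Z, hZ, hP⟩ := isCohF_zero (h := h) hN
    exact ⟨Z, hZ, ObjectProperty.le_ind _ Z hP⟩
  kernels_le := fun K hK => by
    obtain ⟨f, k, hk, hf⟩ := hK
    exact ind_of_iso hN (IsLimit.conePointUniqueUpToIso (kernelIsKernel f) hk) (ind_kernel' hN f hf.1 hf.2)
  cokernels_le := fun K hK => by
    obtain ⟨f, k, hk, hf⟩ := hK
    exact ind_of_iso hN (IsColimit.coconePointUniqueUpToIso (cokernelIsCokernel f) hk) (ind_cokernel' hN f hf.1 hf.2)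
  prop_X₂_of_shortExact := fun {T} hT h₁ h₃ => ind_extension hN hT h₁ h₃

end GrothLib.RpushD7
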