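import Groth.Agent.Lib.RpushD7.CoprodGE
import Groth.Agent.Lib.RpushD7.Exists
import Groth.Agent.Lib.RpushD7.IndClass
import Groth.Agent.Lib.FCat7.FinPres

/-!
# Direct images and coproducts of complexes with ind-coherent cohomology
-/

set_option autoImplicit false
set_option linter.style.haveILetI false
set_option linter.unusedSectionVars false
set_option maxHeartbeats 800000
universe u

open CategoryTheory CategoryTheory.Limits AlgebraicGeometry TopologicalSpace Opposite Pretriangulated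

attribute [local instance] HasDerivedCategory.standard
attribute [local instance] Classical.decEq

noncomputable section

namespace GrothLib.RpushD7

open GrothLib.SiteDer

variable {𝔛 𝔜 : FSch.Sys.{u}} {h : 𝔛.IsFormal} {h' : 𝔜.IsFormal} (f : 𝔛 ⟶ 𝔜) (hN : 𝔛.IsLocNoethFormal)
  [CompactSpace (𝔛.X 0)] [CompactSpace (𝔜.X 0)]
include hN

/-- The coproduct of a family with ind-coherent cohomology has ind-coherent cohomology. -/
theorem cohIn_ind_sigma {ι : Type u} (K : ι → DerivedCategory (FSch.ModF 𝔛 h)) [HasCoproduct K]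
    (hK : ∀ i q, (ObjectProperty.ind.{u} fun G : FSch.ModF 𝔛 h => FSch.IsCohF 𝔛 h G) (SiteCmp.HMod (K i) q)) :
    WSerre.cohIn (ObjectProperty.ind.{u} fun G : FSch.ModF 𝔛 h => FSch.IsCohF 𝔛 h G) (∐ K) := fun q => by
  haveI : IsGrothendieckAbelian.{u} (FSch.ModF 𝔛 h) := KInj.isGrothendieckAbelian_sheafOfModules _
  exact ind_of_iso hN (@asIso _ _ _ _ _ (isIso_homologySigma K q)) (FCat7.sigma_ind hN _ fun i => hK i q)

/-- `Rf_*` commutes with direct sums on complexes with ind-coherent cohomology. -/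
theorem isIso_RpushD_coprod [SiteCmp.HasRpushD (FSch.homMor f h h')] {ι : Type u}
    (K : ι → DerivedCategory (FSch.ModF 𝔛 h)) [HasCoproduct K]
    [HasCoproduct fun i => (Rres (FSch.homMor f h h')).obj (K i)]
    (hK : ∀ i q, (ObjectProperty.ind.{u} fun G : FSch.ModF 𝔛 h => FSch.IsCohF 𝔛 h G) (SiteCmp.HMod (K i) q)) :
    IsIso (Sigma.desc fun i => (Rres (FSch.homMor f h h')).map (Sigma.ι K i)) := by
  haveI : IsGrothendieckAbelian.{u} (FSch.ModF 𝔛 h) := KInj.isGrothendieckAbelian_sheafOfModules _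
  haveI : IsGrothendieckAbelian.{u} (FSch.ModF 𝔜 h') := KInj.isGrothendieckAbelian_sheafOfModules _
  haveI := SheafCoh.enoughInjectives_sheafOfModules (ModSite.ringSh (𝔛.Osh h))
  haveI := HoCat.derivedCategory_hasColimitsOfShape (C := FSch.ModF 𝔛 h) (J := ι)
  haveI := HoCat.derivedCategory_hasColimitsOfShape (C := FSch.ModF 𝔜 h') (J := ι)
  haveI := FCat7.noetherianSpace_X0 hN
  haveI : PrespectralSpace ↑(𝔛.X 0).toTopCat := inferInstanceAs (PrespectralSpace ↥(𝔛.X 0))
  haveI : NoetherianSpace ↑(𝔛.X 0).toTopCat := ‹NoetherianSpace (𝔛.X 0)›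
  haveI : PrespectralSpace ↑(𝔜.X 0).toTopCat := inferInstanceAs (PrespectralSpace ↥(𝔜.X 0))
  let P := ObjectProperty.ind.{u} fun G : FSch.ModF 𝔛 h => FSch.IsCohF 𝔛 h G
  have hA : Acyc P := acyc_ind (h := h) hN
  obtain ⟨N, hb⟩ := exists_preBound P f hA
  obtain ⟨B, B', h1, h2, h3, h4⟩ := site_data (h' := h') hA hb
  let F := FSch.homMor f h h'
  let R := Rres F
  let H := fun j => DerivedCategory.homologyFunctor (FSch.ModF 𝔜 h') j
  refine (DerivedCategory.isIso_iff (C := FSch.ModF 𝔜 h') _).2 fun j => ?_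
  obtain ⟨n, hn⟩ : ∃ n : ℕ, (N : ℤ) - (n : ℤ) ≤ j := ⟨((N : ℤ) - j).toNat, by omega⟩
  let t := DerivedCategory.TStructure.t (C := FSch.ModF 𝔛 h)
  let a : ℤ := -(n : ℤ)
  let L : ι → DerivedCategory (FSch.ModF 𝔛 h) := fun i => (t.truncGE a).obj (K i)
  let π : ∀ i, K i ⟶ L i := fun i => (t.truncGEπ a).app (K i)
  have hL : ∀ i, (L i).IsGE a := fun i => inferInstanceAs (t.IsGE ((t.truncGE a).obj (K i)) a)
  haveI hsum : (∐ L).IsGE a := CptBdd19.isGE_coproduct L a hL
  have hcoh := cohIn_ind_sigma hN K hK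
  have key : ∀ E, WSerre.cohIn P E → IsIso ((H j).map (R.map ((t.truncGEπ a).app E))) := fun E hE =>
    isIso_homology_Rres_truncπ' F P E hE B h1 h2 B' h3 h4 j n fun m hm =>
      isIso_homology_Rres_truncMap' F P N (isZero_rpush_of_preBound hb) E hE j m (by omega)
  let p : (∐ K) ⟶ ∐ L := Limits.Sigma.map π
  haveI : t.IsGE (∐ L) a := hsum
  let v := t.descTruncGE p a
  have hv : (t.truncGEπ a).app (∐ K) ≫ v = p := t.π_descTruncGE p a
  have hvi : IsIso v := (DerivedCategory.isIso_iff (C := FSch.ModF 𝔛 h) v).2 fun q => by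
    by_cases hq : q < a
    · haveI : ((t.truncGE a).obj (∐ K)).IsGE a := inferInstanceAs (t.IsGE ((t.truncGE a).obj (∐ K)) a)
      exact isIso_of_source_target_iso_zero _ (DerivedCategory.isZero_of_isGE _ a q hq).isoZero
        (DerivedCategory.isZero_of_isGE _ a q hq).isoZero
    · have i1 := DerTrunc.isIso_homology_truncGEπ (∐ K) a q (by omega)
      have i2 : IsIso ((DerivedCategory.homologyFunctor _ q).map p) :=
        isIso_homology_sigmaMap K q π fun i => DerTrunc.isIso_homology_truncGEπ (K i) a q (by omega)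
      refine @IsIso.of_isIso_comp_left _ _ _ _ _ _ ((DerivedCategory.homologyFunctor _ q).map v) i1 ?_
      rw [← Functor.map_comp, hv]
      exact i2
  have hRp : IsIso ((H j).map (R.map p)) := by
    rw [← hv, Functor.map_comp, Functor.map_comp]
    haveI := key (∐ K) hcoh
    infer_instance
  haveI : HasCoproduct fun i => R.obj (L i) := inferInstance
  let aK := Sigma.desc fun i => R.map (Sigma.ι K i)
  let aL := Sigma.desc fun i => R.map (Sigma.ι L i)
  let q : (∐ fun i => R.obj (K i)) ⟶ ∐ fun i => R.obj (L i) := Limits.Sigma.map fun i => R.map (π i)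
  have hsq : aK ≫ R.map p = q ≫ aL := Sigma.hom_ext _ _ fun i => by
    simp only [aK, aL, q, Sigma.ι_desc_assoc, Sigma.ι_map_assoc, Sigma.ι_desc, ← R.map_comp]
    exact congrArg R.map (Sigma.ι_map π i)
  have hq : IsIso ((H j).map q) := isIso_homology_sigmaMap _ j _ fun i => key (K i) fun k => hK i k
  have haL : IsIso ((H j).map aL) := by
    refine isIso_homology_Rres_coprod_of_isGE (T := (𝔛.X 0).toTopCat) (S := (𝔜.X 0).toTopCat) F
      {W | IsAffineOpen W} (fun U => ?_) (fun W hW => ?_) L a hL j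
    · obtain ⟨κ, Y, g, -, hcov, hY⟩ := exists_refine (B := {W : Opens (𝔜.X 0) | IsAffineOpen W})
        (fun U y hy => by
          obtain ⟨W, hW, hyW, hWU⟩ := exists_isAffineOpen_mem_and_subset (x := y) (U := U) hy
          exact ⟨W, hW, hyW, hWU⟩) U ⊤ (GrothendieckTopology.top_mem _ U)
      exact ⟨κ, Y, g, hcov, hY⟩
    · exact ⟨hW.isCompact, hW.isQuasiSeparated, NoetherianSpace.isCompact _,
        fun _ _ _ _ _ _ _ _ => NoetherianSpace.isCompact _⟩
  refine @IsIso.of_isIso_comp_right _ _ _ _ _ ((H j).map aK) ((H j).map (R.map p)) hRp ?_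
  rw [← Functor.map_comp, hsq, Functor.map_comp]
  exact @IsIso.comp_isIso _ _ _ _ _ _ _ hq haL

end GrothLib.RpushD7
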