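import Groth.Agent.Lib.RpushD7.DerivedMod
import Groth.Agent.Lib.DerAdj28.Basic
import Mathlib.CategoryTheory.Abelian.GrothendieckCategory.ModuleEmbedding.GabrielPopescu
import Mathlib.CategoryTheory.Adjunction.Additive
import Mathlib.CategoryTheory.Adjunction.FullyFaithful
import Mathlib.Algebra.Homology.DerivedCategory.ExactFunctor

/-!
# Left adjoints out of the derived category of a Grothendieck abelian category with large hom sets
-/

set_option autoImplicit false
set_option linter.style.haveILetI false
set_option linter.unusedSectionVars false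
universe u w v v' u₁ u₂ u₃

open CategoryTheory CategoryTheory.Limits Opposite Pretriangulated GrothLib.KInj HomotopyCategory

attribute [local instance] HasDerivedCategory.standard

noncomputable section

namespace GrothLib.RpushD7

section Descend

variable {D0 : Type u₁} [Category.{w} D0] {D1 : Type u₂} [Category.{w} D1] {D2 : Type u₃} [Category.{w} D2]
  (L : D0 ⥤ D1) (F : D1 ⥤ D2)

/-- Being a left adjoint descends along a localisation with a fully faithful right adjoint. -/
theorem isLeftAdjoint_of_comp
    (hL : ∀ X, ∃ (W : D0) (ε : L.obj W ⟶ X), IsIso ε ∧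
      ∀ Z, Function.Bijective (fun f : Z ⟶ W => L.map f ≫ ε))
    [(L ⋙ F).IsLeftAdjoint] : F.IsLeftAdjoint := by
  refine Functor.isLeftAdjoint_of_rightAdjointObjIsDefined_eq_top (funext fun Y => ?_)
  simp only [Pi.top_apply, Prop.top_eq_true, eq_iff_iff, iff_true]
  rw [Functor.rightAdjointObjIsDefined_iff]
  let adj := Adjunction.ofIsLeftAdjoint (L ⋙ F)
  let M := (L ⋙ F).rightAdjoint.obj Y
  let θ : F.obj (L.obj M) ⟶ Y := adj.counit.app Y
  have hθ : ∀ Z, Function.Bijective (fun g : Z ⟶ M => F.map (L.map g) ≫ θ) := fun Z => by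
    refine (congrArg Function.Bijective (funext fun g => ?_)).mp (adj.homEquiv Z Y).symm.bijective
    exact adj.homEquiv_counit Z Y g
  obtain ⟨W₀, e, hie, he⟩ := hL (L.obj M)
  obtain ⟨η, hη⟩ := (he M).2 (𝟙 (L.obj M))
  simp only at hη
  have hLη : IsIso (L.map η) := by
    rw [show L.map η = inv e by rw [← cancel_mono e, hη, IsIso.inv_hom_id]]
    infer_instance
  obtain ⟨r, hr⟩ := (hθ W₀).2 (F.map e ≫ θ)
  simp only at hr
  have h1 : η ≫ r = 𝟙 M := (hθ M).1 (by
    simp only [Functor.map_comp, Category.assoc, hr]
    rw [← Functor.map_comp_assoc, hη]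
    simp)
  have hLr : L.map r = e := by
    rw [← cancel_epi (L.map η), ← Functor.map_comp, h1, CategoryTheory.Functor.map_id, hη]
  have h2 : r ≫ η = 𝟙 W₀ := (he W₀).1 (by
    simp only [Functor.map_comp, Category.assoc, hη, CategoryTheory.Functor.map_id, Category.id_comp,
      Category.comp_id]
    exact hLr)
  have hfull : ∀ W : D0, Function.Bijective (fun g : W ⟶ M => L.map g) := fun W => by
    refine ⟨fun a b hab => ?_, fun c => ?_⟩
    · have h3 : a ≫ η = b ≫ η := (he W).1 (by simp only at hab; simp only [Functor.map_comp, hab])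
      have := congrArg (· ≫ r) h3
      simpa only [Category.assoc, h1, Category.comp_id] using this
    · obtain ⟨g, hg⟩ := (he W).2 c
      simp only at hg
      exact ⟨g ≫ r, by simp only [Functor.map_comp, hLr]; exact hg⟩
  have key : ∀ X, Function.Bijective (fun f : X ⟶ L.obj M => F.map f ≫ θ) := fun X => by
    obtain ⟨W, ε, hiε, -⟩ := hL X
    let t : (X ⟶ L.obj M) → (F.obj X ⟶ Y) := fun f => F.map f ≫ θ
    have hb := (hθ W)
    have hcomp : (fun g : W ⟶ M => F.map (L.map g) ≫ θ) =
        (Iso.homFromEquiv (F.mapIso (@asIso _ _ _ _ ε hiε))).symm ∘ t ∘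
          (Iso.homFromEquiv (@asIso _ _ _ _ ε hiε)) ∘ (fun g => L.map g) := funext fun g => by
      simp [t]
    rw [hcomp, Function.Bijective.of_comp_iff' (Equiv.bijective _)] at hb
    exact (Function.Bijective.of_comp_iff t ((Equiv.bijective _).comp (hfull W))).1 hb
  exact Functor.RepresentableBy.isRepresentable
    { homEquiv := fun {X} => Equiv.ofBijective _ (key X)
      homEquiv_comp := fun {X X'} f g => by simp }

end Descend

section Local

variable {A : Type u₁} [Category.{v} A] [Abelian A] {B : Type u₂} [Category.{v'} B] [Abelian B]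
  {L : B ⥤ A} {G : A ⥤ B} (adj : L ⊣ G) [L.Additive] [G.Additive] [G.Full] [G.Faithful]
  [PreservesFiniteLimits L] [PreservesFiniteColimits L] [IsGrothendieckAbelian.{v} A]

include adj in
/-- The derived functor of an exact localisation has a fully faithful right adjoint. -/
theorem exists_local (Y : DerivedCategory A) : ∃ (W : DerivedCategory B) (ε : L.mapDerivedCategory.obj W ⟶ Y),
    IsIso ε ∧ ∀ Z, Function.Bijective (fun f : Z ⟶ W => L.mapDerivedCategory.map f ≫ ε) := by
  let I := (res A).obj Y
  let GI := (G.mapHomotopyCategory (ComplexShape.up ℤ)).obj I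
  let W : DerivedCategory B := DerivedCategory.Qh.obj GI
  let c : (L.mapHomotopyCategory (ComplexShape.up ℤ)).obj GI ⟶ I := (mapHomotopyAdj adj).counit.app I
  have hc : IsIso c := by
    haveI : IsIso ((mapComplexAdj adj (ComplexShape.up ℤ)).counit.app I.as) := by
      haveI : ∀ n, IsIso (((mapComplexAdj adj (ComplexShape.up ℤ)).counit.app I.as).f n) := fun n =>
        inferInstanceAs (IsIso (adj.counit.app (I.as.X n)))
      exact HomologicalComplex.Hom.isIso_of_components _
    exact inferInstanceAs (IsIso ((quotient A _).map ((mapComplexAdj adj (ComplexShape.up ℤ)).counit.app I.as)))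
  let ε : L.mapDerivedCategory.obj W ⟶ Y :=
    L.mapDerivedCategoryFactorsh.hom.app GI ≫ DerivedCategory.Qh.map c ≫ (resAdj A).counit.app Y
  have hGI := rightOrthogonal_map adj (rightOrthogonal_res (A := A) Y)
  refine ⟨W, ε, inferInstance, fun X => ?_⟩
  haveI := Localization.essSurj (DerivedCategory.Qh (C := B)) (subcategoryAcyclic B).trW
  let Z := DerivedCategory.Qh.objPreimage X
  let e : DerivedCategory.Qh.obj Z ≅ X := DerivedCategory.Qh.objObjPreimageIso X
  have hZ : Function.Bijective
      (fun f : DerivedCategory.Qh.obj Z ⟶ W => L.mapDerivedCategory.map f ≫ ε) := by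
    have h1 := hGI.map_bijective_of_isTriangulated DerivedCategory.Qh Z
    refine (Function.Bijective.of_comp_iff _ h1).1 ?_
    have h2 : Function.Bijective fun g : Z ⟶ GI =>
        DerivedCategory.Qh.map ((L.mapHomotopyCategory (ComplexShape.up ℤ)).map g ≫ c) ≫
          (resAdj A).counit.app Y := by
      have := (((mapHomotopyAdj adj).homEquiv Z I).symm.trans ((resAdj A).homEquiv _ Y).symm).bijective
      refine (congrArg Function.Bijective (funext fun g => ?_)).mp this
      simp only [Equiv.trans_apply, Adjunction.homEquiv_counit]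
      rfl
    refine (congrArg Function.Bijective (funext fun g => ?_)).mpr
      ((Iso.homFromEquiv (L.mapDerivedCategoryFactorsh.app Z).symm).bijective.comp h2)
    simp only [Function.comp_apply, Iso.homFromEquiv_apply, Iso.symm_inv, Iso.app_hom]
    refine ((L.mapDerivedCategoryFactorsh.hom.naturality_assoc g _).trans (congrArg (_ ≫ ·) ?_))
    simp [c]
  refine (congrArg Function.Bijective (funext fun f => ?_)).mpr
    (((Iso.homFromEquiv (L.mapDerivedCategory.mapIso e)).bijective.comp hZ).comp
      (Iso.homFromEquiv e.symm).bijective)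
  simp

end Local

variable {A : Type (u + 1)} [Category.{u} A] [Abelian A] [IsGrothendieckAbelian.{u} A]
  {D' : Type u₃} [Category.{u + 1} D'] [Preadditive D'] [HasZeroObject D'] [HasShift D' ℤ]
  [∀ n : ℤ, (shiftFunctor D' n).Additive] [Pretriangulated D'] [∀ X Y : D', Small.{u} (X ⟶ Y)]

/-- A coproduct preserving triangulated functor out of the standard derived category of a Grothendieck
abelian category into a category with small hom sets is a left adjoint. -/
theorem isLeftAdjoint_derived_standard (F : DerivedCategory A ⥤ D') [F.CommShift ℤ] [F.IsTriangulated]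
    [∀ (κ : Type u), PreservesColimitsOfShape (Discrete κ) F] : F.IsLeftAdjoint := by
  obtain ⟨G, hG⟩ := HasSeparator.hasSeparator (C := A)
  haveI := IsGrothendieckAbelian.GabrielPopescu.full G hG
  haveI := (isSeparator_iff_faithful_preadditiveCoyonedaObj G).1 hG
  let adj := IsGrothendieckAbelian.tensorObjPreadditiveCoyonedaObjAdjunction G
  let T := IsGrothendieckAbelian.tensorObj G
  haveI : T.Additive := adj.left_adjoint_additive
  haveI : PreservesFiniteLimits T := IsGrothendieckAbelian.GabrielPopescu.preservesFiniteLimits G hG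
  haveI : PreservesFiniteColimits T :=
    have : PreservesColimitsOfSize.{u, u} T := adj.leftAdjoint_preservesColimits
    inferInstance
  haveI : T.mapDerivedCategory.IsLeftAdjoint := DerAdj28.isLeftAdjoint_mapDerivedCategory adj
  haveI : ∀ (κ : Type u), PreservesColimitsOfShape (Discrete κ) T.mapDerivedCategory := fun κ =>
    (Adjunction.ofIsLeftAdjoint T.mapDerivedCategory).leftAdjoint_preservesColimits.preservesColimitsOfShape
  haveI : ∀ (κ : Type u), PreservesColimitsOfShape (Discrete κ) (T.mapDerivedCategory ⋙ F) := fun κ =>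
    inferInstance
  haveI := isLeftAdjoint_derivedMod (End G)ᵐᵒᵖ (T.mapDerivedCategory ⋙ F)
  exact isLeftAdjoint_of_comp T.mapDerivedCategory F (exists_local adj)

end GrothLib.RpushD7
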