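import Groth.Agent.Lib.RpushD7.Exists
import Groth.Agent.Lib.DerComp.Rep
import Groth.Agent.Lib.FCat7.FinPres

/-!
# Boundedness of hypercohomology of complexes with ind-coherent cohomology
-/

set_option autoImplicit false
set_option linter.style.haveILetI false
set_option linter.unusedSectionVars false
universe u

open CategoryTheory CategoryTheory.Limits AlgebraicGeometry TopologicalSpace Opposite Pretriangulated

attribute [local instance] HasDerivedCategory.standard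

noncomputable section

namespace GrothLib.RpushD7

open GrothLib.SiteDer GrothLib.DerComp

/-- The structure sheaf corepresents global sections. -/
def unitTopRep' {T : TopCat.{u}} (O : Sheaf (Opens.grothendieckTopology T) CommRingCat.{u}) :
    SecRep (ModSite.unit O) (⊤ : Opens T) where
  eqv G := G.unitHomEquiv.trans
    { toFun := fun s => s.1 (op ⊤)
      invFun := fun x => PresheafOfModules.sectionsMk
        (fun W => G.val.map (homOfLE (le_top : W.unop ≤ ⊤)).op x) fun W W' h => by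
        rw [← PresheafOfModules.map_comp_apply]
        rfl
      left_inv := fun s => PresheafOfModules.sections_ext _ _ fun W => s.2 (homOfLE (le_top : W.unop ≤ ⊤)).op
      right_inv := fun x => by
        change G.val.map (homOfLE (le_refl (⊤ : Opens T))).op x = x
        rw [show (homOfLE (le_refl (⊤ : Opens T))).op = 𝟙 (op (⊤ : Opens T)) from rfl, PresheafOfModules.map_id]
        rfl }
  comp a b := rfl

variable {𝔛 : FSch.Sys.{u}} {h : 𝔛.IsFormal} (hN : 𝔛.IsLocNoethFormal) [CompactSpace (𝔛.X 0)]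
include hN

/-- Maps out of the structure sheaf in high degrees vanish. -/
theorem exists_bound_hom_unit : ∃ e : ℕ, ∀ (G : DerivedCategory (FSch.ModF 𝔛 h)),
    (∀ i : ℤ, (ObjectProperty.ind.{u} fun M : FSch.ModF 𝔛 h => FSch.IsCohF 𝔛 h M) (SiteCmp.HMod G i)) →
    ∀ i₀ : ℤ, (∀ i : ℤ, i₀ ≤ i → IsZero (SiteCmp.HMod G i)) → ∀ i : ℤ, i₀ + e ≤ i →
      ∀ φ : (DerivedCategory.singleFunctor (FSch.ModF 𝔛 h) i).obj ((freeMod (𝔛.Osh h)).obj (⊤ : Opens (𝔛.X 0))) ⟶ G,
        φ = 0 := by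
  haveI := FCat7.noetherianSpace_X0 hN
  haveI : IsGrothendieckAbelian.{u} (FSch.ModF 𝔛 h) := KInj.isGrothendieckAbelian_sheafOfModules _
  have := HoCat.derivedCategory_hasLimitsOfShape (A := FSch.ModF 𝔛 h) ℕ
  let P := ObjectProperty.ind.{u} fun M : FSch.ModF 𝔛 h => FSch.IsCohF 𝔛 h M
  have hA : Acyc P := acyc_ind (h := h) hN
  obtain ⟨d, hd⟩ := bddU_open (affAcyc (𝔛.X 0)) (fun F hF => hF) (⊤ : (𝔛.X 0).Opens)
  have hd' : ∀ M, P M → ∀ k : ℕ, d < k → Subsingleton (ModSite.HU (𝔛.Osh h) M k (⊤ : Opens (𝔛.X 0))) := by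
    intro M hM k hk
    have := hd 1 (ModSite.toAb M) (affAcyc_toAb P hA M hM) k hk
    rwa [(𝔛.X 0).basicOpen_of_isUnit isUnit_one] at this
  refine ⟨d, fun G hG i₀ h0 i hi φ => ?_⟩
  have hB : ∀ U : Opens (𝔛.X 0), ∃ (ι : Type u) (Y : ι → Opens (𝔛.X 0)) (g : ∀ i, Y i ⟶ U),
      Sieve.ofArrows Y g ∈ Opens.grothendieckTopology _ U ∧ ∀ i, Y i ∈ {W : Opens (𝔛.X 0) | IsAffineOpen W} := by
    intro U
    obtain ⟨κ, Y, g, -, hcov, hY⟩ := exists_refine (B := {W : Opens (𝔛.X 0) | IsAffineOpen W})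
      (fun U y hy => by
        obtain ⟨W, hW, hyW, hWU⟩ := exists_isAffineOpen_mem_and_subset (x := y) (U := U) hy
        exact ⟨W, hW, hyW, hWU⟩) U ⊤ (GrothendieckTopology.top_mem _ U)
    exact ⟨κ, Y, g, hcov, hY⟩
  have good : ∀ (V : Opens (𝔛.X 0)) (D : ℕ),
      (∀ M, P M → ∀ k : ℕ, D < k → Subsingleton (ModSite.HU (𝔛.Osh h) M k V)) → ∀ j : ℤ,
      GoodAt (K := fun n : ℕ => (DerivedCategory.TStructure.t.truncGE (-(n : ℤ))).obj G)
        (fun n => (DerivedCategory.TStructure.t.natTransTruncGEOfLE (-((n + 1 : ℕ) : ℤ)) (-(n : ℤ))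
          (by omega)).app G) (freeMod (𝔛.Osh h)) j (((D : ℤ) - j + 1).toNat + (-j).toNat + 2) V := by
    intro V D hD j'
    refine goodAt_of_homology j' _ _ fun m hm => ?_
    obtain ⟨Z, a, c, hZT, hZ, hz, ⟨e⟩⟩ := exists_cone_truncMap G m
    refine ⟨Z, a, c, _, hZT, hZ, fun k q hk hqk ψ => ?_⟩
    by_cases hq : q = -(m : ℤ) - 2
    · subst hq
      have hk' : j' - 1 ≤ k := by rcases hk with rfl | rfl <;> omega
      obtain ⟨M, hM⟩ : ∃ M : ℕ, (M : ℤ) = k + m + 2 := ⟨(k + m + 2).toNat, by omega⟩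
      exact eq_zero_of_subsingleton_HU _ _ k _ M (by omega)
        (hD _ (P.prop_of_iso e.symm (hG _)) M (by omega)) _
    · exact ((DerivedCategory.singleFunctor _ q).map_isZero (hz q hq)).eq_of_tgt _ _
  have hE := isRlimVia_trunc (isLocGen_freeMod (ModSite.ringSh (𝔛.Osh h))) G {W : Opens (𝔛.X 0) | IsAffineOpen W} hB
    fun V _ j' => ⟨_, fun T hT => by
      obtain ⟨κ, Y, g, hT', hcov, hY⟩ := exists_refine (B := {W : Opens (𝔛.X 0) | IsAffineOpen W})
        (fun U y hy => by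
          obtain ⟨W, hW, hyW, hWU⟩ := exists_isAffineOpen_mem_and_subset (x := y) (U := U) hy
          exact ⟨W, hW, hyW, hWU⟩) V T hT
      exact ⟨κ, Y, g, hT', hcov, fun l => good (Y l) 0 (fun M hM k hk => by
        obtain ⟨m, rfl⟩ : ∃ m, k = m + 1 := ⟨k - 1, by omega⟩
        exact hA M hM _ (hY l) m) j'⟩⟩
  let n := ((d : ℤ) - i + 1).toNat + (-i).toNat + 2
  have hinj := ((good ⊤ d hd' i).bijective hE n le_rfl).1
  refine hinj ?_
  simp only [zero_comp]
  let Z := (DerivedCategory.TStructure.t.truncGE (-(n : ℤ))).obj G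
  haveI : Z.IsGE (-(n : ℤ)) := inferInstanceAs (DerivedCategory.TStructure.t.IsGE Z (-(n : ℤ)))
  refine eq_zero_of_isGE' _ i (-(n : ℤ)) Z (fun q hq hqi ψ => ?_) _
  have iso := @asIso _ _ _ _ _ (DerTrunc.isIso_homology_truncGEπ G (-(n : ℤ)) q hq)
  by_cases hq0 : i₀ ≤ q
  · exact ((DerivedCategory.singleFunctor _ q).map_isZero ((h0 q hq0).of_iso iso.symm)).eq_of_tgt _ _
  · exact eq_zero_of_subsingleton_HU _ _ i q (i - q).toNat (by omega)
      (hd' _ (P.prop_of_iso iso (hG q)) _ (by omega)) _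

end GrothLib.RpushD7
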