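import Mathlib.CategoryTheory.Abelian.GrothendieckCategory.Basic
import Mathlib.CategoryTheory.Abelian.GrothendieckAxioms.Basic
import Mathlib.CategoryTheory.Abelian.Subcategory
import Mathlib.CategoryTheory.ObjectProperty.FiniteProducts
import Mathlib.CategoryTheory.ObjectProperty.ColimitsOfShape
import Mathlib.CategoryTheory.Limits.FullSubcategory
import Mathlib.CategoryTheory.Generator.Basic

/-!
# Grothendieck abelian full subcategories closed under colimits
-/

set_option autoImplicit false
set_option linter.style.haveILetI false
universe u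

open CategoryTheory CategoryTheory.Limits

noncomputable section

namespace GrothLib.RpushD7

variable {A : Type (u + 1)} [Category.{u} A] [Abelian A] [IsGrothendieckAbelian.{u} A] (P : ObjectProperty A)
  [P.ContainsZero] [P.IsClosedUnderKernels] [P.IsClosedUnderCokernels] [P.IsClosedUnderFiniteProducts]
  [PreservesFiniteLimits P.ι]

/-- The inclusion of a class closed under colimits preserves them. -/
theorem preservesColimits_full_ι (hcl : ∀ (J : Type u) [SmallCategory J], P.IsClosedUnderColimitsOfShape J) :
    PreservesColimitsOfSize.{u, u} P.ι :=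
  ⟨fun {J} _ => ⟨fun {K} => by
    haveI := hcl J
    haveI := createsColimitFullSubcategoryInclusionOfClosed J P K
    infer_instance⟩⟩

/-- A class closed under colimits with a small generating family is Grothendieck abelian. -/
theorem isGrothendieckAbelian_full (hcl : ∀ (J : Type u) [SmallCategory J], P.IsClosedUnderColimitsOfShape J)
    {S : Type u} (G : S → A) (hG : ∀ s, P (G s))
    (hgen : ∀ (M : A), P M → ∀ (N : A) (g : M ⟶ N), (∀ s (φ : G s ⟶ M), φ ≫ g = 0) → g = 0) :
    IsGrothendieckAbelian.{u} P.FullSubcategory := by
  haveI hc : HasColimitsOfSize.{u, u} P.FullSubcategory :=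
    ⟨fun J _ => haveI := hcl J; hasColimitsOfShape_of_closedUnderColimits J P⟩
  haveI := preservesColimits_full_ι P hcl
  haveI : HasFilteredColimitsOfSize.{u, u} P.FullSubcategory := ⟨fun _ _ _ => inferInstance⟩
  haveI : AB5OfSize.{u, u} P.FullSubcategory :=
    { ofShape := fun J _ _ =>
        haveI : ReflectsFiniteLimits P.ι := ⟨fun _ _ _ => inferInstance⟩
        HasExactColimitsOfShape.domain_of_functor J P.ι }
  haveI : LocallySmall.{u} P.FullSubcategory := ⟨fun _ _ => inferInstance⟩
  let G' : S → P.FullSubcategory := fun s => ⟨G s, hG s⟩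
  haveI : HasSeparator P.FullSubcategory := by
    refine ⟨∐ G', (isSeparator_sigma G').2 fun X Y f g hfg => ?_⟩
    rw [← sub_eq_zero]
    apply P.ι.map_injective
    rw [Functor.map_zero]
    refine hgen _ X.property _ _ fun s φ => ?_
    have := congrArg P.ι.map (hfg (G' s) (ObjectProperty.ofObj_apply G' s) (ObjectProperty.homMk φ))
    rw [Functor.map_comp, Functor.map_comp] at this
    rw [Functor.map_sub, Preadditive.comp_sub, sub_eq_zero]
    exact this
  exact {}

end GrothLib.RpushD7
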