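import Groth.Agent.Lib.RpushD7.CoprodPush
import Groth.Agent.Lib.RpushD7.Descend
import Groth.Agent.Lib.RpushD7.FullGroth
import Groth.Agent.Lib.FCat7.Small
import Groth.Agent.Lib.DerCat.MapHomology
import Groth.Agent.Lib.DerAdj28.Basic
import Groth.Agent.Lib.DerComp.Generate

/-!
# Right adjoints of derived direct images on derived categories of subcategories of ind-coherent modules
-/

set_option autoImplicit false
set_option linter.style.haveILetI false
set_option linter.unusedSectionVars false
set_option maxHeartbeats 800000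
universe u

open CategoryTheory CategoryTheory.Limits AlgebraicGeometry TopologicalSpace Opposite Pretriangulated

attribute [local instance] HasDerivedCategory.standard

noncomputable section

namespace GrothLib.RpushD7

open GrothLib.SiteDer

variable {𝔛 𝔜 : FSch.Sys.{u}} {h : 𝔛.IsFormal} {h' : 𝔜.IsFormal} (f : 𝔛 ⟶ 𝔜) (hN : 𝔛.IsLocNoethFormal)
  [CompactSpace (𝔛.X 0)] [CompactSpace (𝔜.X 0)]
include hN

/-- The derived direct image restricted to the derived category of a colimit-closed abelian subcategory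
of ind-coherent modules is a left adjoint. -/
theorem isLeftAdjoint_mapDerived_RpushD (P : ObjectProperty (FSch.ModF 𝔛 h))
    [P.ContainsZero] [P.IsClosedUnderKernels] [P.IsClosedUnderCokernels] [P.IsClosedUnderFiniteProducts]
    [PreservesFiniteLimits P.ι] [PreservesFiniteColimits P.ι] [SiteCmp.HasRpushD (FSch.homMor f h h')]
    [P.ι.IsLeftAdjoint]
    (hcl : ∀ (J : Type u) [SmallCategory J], P.IsClosedUnderColimitsOfShape J)
    (hind : ∀ M, P M → (ObjectProperty.ind.{u} fun G : FSch.ModF 𝔛 h => FSch.IsCohF 𝔛 h G) M)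
    {S : Type u} (G : S → FSch.ModF 𝔛 h) (hG : ∀ s, P (G s))
    (hgen : ∀ (M : FSch.ModF 𝔛 h), P M → ∀ (M' : FSch.ModF 𝔛 h) (g : M ⟶ M'),
      (∀ s (φ : G s ⟶ M), φ ≫ g = 0) → g = 0) :
    (P.ι.mapDerivedCategory ⋙ SiteCmp.RpushD (FSch.homMor f h h')).IsLeftAdjoint := by
  haveI : IsGrothendieckAbelian.{u} (FSch.ModF 𝔛 h) := KInj.isGrothendieckAbelian_sheafOfModules _
  haveI : IsGrothendieckAbelian.{u} (FSch.ModF 𝔜 h') := KInj.isGrothendieckAbelian_sheafOfModules _
  haveI : IsGrothendieckAbelian.{u} P.FullSubcategory := isGrothendieckAbelian_full P hcl G hG hgen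
  haveI : ∀ X Y : DerivedCategory (FSch.ModF 𝔜 h'), Small.{u} (X ⟶ Y) := DerComp.small_hom
  haveI := (Adjunction.ofIsLeftAdjoint P.ι).right_adjoint_additive
  haveI : P.ι.mapDerivedCategory.IsLeftAdjoint :=
    DerAdj28.isLeftAdjoint_mapDerivedCategory (Adjunction.ofIsLeftAdjoint P.ι)
  let R := Rres (FSch.homMor f h h')
  haveI : R.IsTriangulated := isTriangulated_res_map (FSch.homMor f h h').push
  haveI : ∀ (κ : Type u), PreservesColimitsOfShape (Discrete κ) P.ι.mapDerivedCategory := fun κ =>
    (Adjunction.ofIsLeftAdjoint P.ι.mapDerivedCategory).leftAdjoint_preservesColimits.preservesColimitsOfShape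
  haveI : ∀ (κ : Type u), PreservesColimitsOfShape (Discrete κ) (P.ι.mapDerivedCategory ⋙ R) := fun κ =>
    ⟨fun {K} => by
      let E : κ → DerivedCategory (FSch.ModF 𝔛 h) := fun a => P.ι.mapDerivedCategory.obj (K.obj ⟨a⟩)
      haveI := HoCat.derivedCategory_hasColimitsOfShape (C := FSch.ModF 𝔛 h) (J := κ)
      haveI := HoCat.derivedCategory_hasColimitsOfShape (C := FSch.ModF 𝔜 h') (J := κ)
      have hE : ∀ a q, (ObjectProperty.ind.{u} fun G : FSch.ModF 𝔛 h => FSch.IsCohF 𝔛 h G) (SiteCmp.HMod (E a) q) :=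
        fun a q => hind _ (((DerivedCategory.homologyFunctor P.FullSubcategory q).obj (K.obj ⟨a⟩)).property) |> fun hp =>
          ind_of_iso hN ((DerTrunc.homologyMapIso P.ι q).app (K.obj ⟨a⟩)).symm hp
      haveI : IsIso (sigmaComparison R E) := isIso_RpushD_coprod (h' := h') f hN E hE
      haveI : PreservesColimit (Discrete.functor E) R := PreservesCoproduct.of_iso_comparison R E
      haveI : PreservesColimit (K ⋙ P.ι.mapDerivedCategory) R :=
        preservesColimit_of_iso_diagram R
          (Discrete.natIso fun a => Iso.refl _ : Discrete.functor E ≅ K ⋙ P.ι.mapDerivedCategory)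
      infer_instance⟩
  haveI : (P.ι.mapDerivedCategory ⋙ R).IsLeftAdjoint := isLeftAdjoint_derived_standard _
  exact Functor.isLeftAdjoint_of_iso
    (Functor.isoWhiskerLeft P.ι.mapDerivedCategory (rpushDIso (FSch.homMor f h h')).symm)

end GrothLib.RpushD7
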