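import Groth.Agent.Lib.FCat7.Acyclic
import Mathlib.AlgebraicGeometry.Noetherian

/-!
# Cohomological dimension of opens of a Noetherian scheme for sheaves acyclic on affine opens
-/

set_option autoImplicit false
set_option linter.style.haveILetI false
set_option linter.unusedSectionVars false
universe u

open CategoryTheory CategoryTheory.Limits AlgebraicGeometry TopologicalSpace Opposite Abelian

noncomputable section

namespace GrothLib.RpushD7

/-- Vanishing on a union from vanishing on the parts and on the intersection. -/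
theorem subsingleton_ext_sup {T : Type u} [TopologicalSpace T] (F : Cohom.AbSheaf T) (V W : Opens T) (m : ℕ)
    (hV : Subsingleton (Ext.{u} (Cohom.freeFun.obj V) F (m + 1)))
    (hW : Subsingleton (Ext.{u} (Cohom.freeFun.obj W) F (m + 1)))
    (hI : Subsingleton (Ext.{u} (Cohom.freeFun.obj (V ⊓ W)) F m)) :
    Subsingleton (Ext.{u} (Cohom.freeFun.obj (V ⊔ W)) F (m + 1)) := by
  let hS := (Opens.mayerVietorisSquare V W).shortComplex_shortExact
  refine subsingleton_of_forall_eq 0 fun x₃ => ?_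
  have h2 : (Ext.mk₀ (Opens.mayerVietorisSquare V W).shortComplex.g).comp x₃ (zero_add (m + 1)) = 0 := by
    haveI : Subsingleton (Ext.{u} (Cohom.freeFun.obj V) F (m + 1) × Ext.{u} (Cohom.freeFun.obj W) F (m + 1)) :=
      inferInstance
    exact (Ext.biprodAddEquiv (X₁ := Cohom.freeFun.obj V) (X₂ := Cohom.freeFun.obj W) (Y := F) (n := m + 1)).injective
      (Subsingleton.elim _ _)
  obtain ⟨x₁, rfl⟩ := Ext.contravariant_sequence_exact₃ hS F x₃ h2 (by omega : 1 + m = m + 1)
  rw [show x₁ = 0 from @Subsingleton.elim _ hI _ _, Ext.comp_zero]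
  rfl

variable {X : Scheme.{u}} (A : ObjectProperty (Cohom.AbSheaf X.toTopCat))

/-- Cohomology of all basic opens of `U` vanishes above a bound, uniformly on the class. -/
def BddU (U : X.Opens) : Prop :=
  ∃ d : ℕ, ∀ (φ : Γ(X, U)) (F : Cohom.AbSheaf X.toTopCat), A F → ∀ k, d < k →
    Subsingleton (Ext.{u} ((Cohom.freeFun (T := X.toTopCat)).obj (X.basicOpen φ)) F k)

theorem bddU_sup {V W : X.Opens} (hV : BddU A V) (hW : BddU A W) (hI : BddU A (V ⊓ W)) : BddU A (V ⊔ W) := by
  obtain ⟨dV, hV⟩ := hV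
  obtain ⟨dW, hW⟩ := hW
  obtain ⟨dI, hI⟩ := hI
  refine ⟨max (max dV dW) (dI + 1), fun φ F hF k hk => ?_⟩
  obtain ⟨m, rfl⟩ : ∃ m, k = m + 1 := ⟨k - 1, by omega⟩
  have e : X.basicOpen φ = X.basicOpen (X.presheaf.map (homOfLE (le_sup_left : V ≤ V ⊔ W)).op φ) ⊔
      X.basicOpen (X.presheaf.map (homOfLE (le_sup_right : W ≤ V ⊔ W)).op φ) := by
    rw [Scheme.basicOpen_res, Scheme.basicOpen_res]
    exact (inf_eq_right.2 (X.basicOpen_le φ)).symm.trans (inf_sup_right _ _ _)
  have e' : X.basicOpen (X.presheaf.map (homOfLE (le_sup_left : V ≤ V ⊔ W)).op φ) ⊓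
      X.basicOpen (X.presheaf.map (homOfLE (le_sup_right : W ≤ V ⊔ W)).op φ) =
      X.basicOpen (X.presheaf.map (homOfLE ((inf_le_left : V ⊓ W ≤ V).trans le_sup_left)).op φ) := by
    rw [Scheme.basicOpen_res, Scheme.basicOpen_res, Scheme.basicOpen_res]
    ext z
    exact ⟨fun h => ⟨⟨h.1.1, h.2.1⟩, h.1.2⟩, fun h => ⟨⟨h.1.1, h.2⟩, ⟨h.1.2, h.2⟩⟩⟩
  rw [e]
  refine subsingleton_ext_sup (T := X.toTopCat) F _ _ m (hV _ F hF _ (by omega)) (hW _ F hF _ (by omega)) ?_
  rw [e']
  exact hI _ F hF _ (by omega)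

variable (hA : ∀ (F : Cohom.AbSheaf X.toTopCat), A F → ∀ W : X.Opens, IsAffineOpen W → ∀ k : ℕ,
  Subsingleton (Ext.{u} ((Cohom.freeFun (T := X.toTopCat)).obj W) F (k + 1)))
include hA

theorem bddU_affine {U : X.Opens} (hU : IsAffineOpen U) : BddU A U :=
  ⟨0, fun φ F hF k hk => by
    obtain ⟨m, rfl⟩ : ∃ m, k = m + 1 := ⟨k - 1, by omega⟩
    exact hA F hF _ (hU.basicOpen φ) m⟩

theorem bddU_basics {U : X.Opens} (hU : IsAffineOpen U) :
    ∀ (n : ℕ) (g : Fin n → Γ(X, U)), BddU A (⨆ i, X.basicOpen (g i))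
  | 0, g => by
    rw [iSup_of_empty, ← X.basicOpen_zero U]
    exact bddU_affine A hA (hU.basicOpen 0)
  | n + 1, g => by
    have e : (⨆ i, X.basicOpen (g i)) = X.basicOpen (g 0) ⊔ ⨆ i : Fin n, X.basicOpen (g i.succ) := by
      refine le_antisymm (iSup_le fun i => ?_) (sup_le (le_iSup (fun i => X.basicOpen (g i)) 0)
        (iSup_le fun i => le_iSup (fun i => X.basicOpen (g i)) i.succ))
      refine Fin.cases le_sup_left (fun j => ?_) i
      exact le_sup_of_le_right (le_iSup (fun j : Fin n => X.basicOpen (g j.succ)) j)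
    have e' : X.basicOpen (g 0) ⊓ (⨆ i : Fin n, X.basicOpen (g i.succ)) =
        ⨆ i : Fin n, X.basicOpen (g 0 * g i.succ) := by
      rw [inf_iSup_eq]
      exact iSup_congr fun i => (X.basicOpen_mul _ _).symm
    rw [e]
    refine bddU_sup A (bddU_affine A hA (hU.basicOpen _)) (bddU_basics hU n _) ?_
    rw [e']
    exact bddU_basics hU n _

variable [NoetherianSpace X]

theorem bddU_le_affine {U P : X.Opens} (hU : IsAffineOpen U) (hP : P ≤ U) : BddU A P := by
  classical
  choose g hg hxg using fun x : P => hU.exists_basicOpen_le x (hP x.2)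
  obtain ⟨t, ht⟩ := (NoetherianSpace.isCompact (P : Set X)).elim_finite_subcover
    (fun x : P => (X.basicOpen (g x) : Set X)) (fun x => (X.basicOpen (g x)).2)
    fun x hx => Set.mem_iUnion.2 ⟨⟨x, hx⟩, hxg _⟩
  have e : P = ⨆ i : Fin t.card, X.basicOpen (g (t.equivFin.symm i).1) := by
    refine le_antisymm (fun x hx => ?_) (iSup_le fun i => hg _)
    obtain ⟨y, hy, hxy⟩ := Set.mem_iUnion₂.1 (ht hx)
    exact Opens.mem_iSup.2 ⟨t.equivFin ⟨y, hy⟩, by rw [Equiv.symm_apply_apply]; exact hxy⟩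
  rw [e]
  exact bddU_basics A hA hU _ _

/-- Every open of a Noetherian scheme has bounded cohomological dimension on the class. -/
theorem bddU_open (P : X.Opens) : BddU A P := by
  classical
  choose W hW hxW hWP using fun x : P => exists_isAffineOpen_mem_and_subset (x := x.1) (U := P) x.2
  obtain ⟨t, ht⟩ := (NoetherianSpace.isCompact (P : Set X)).elim_finite_subcover
    (fun x : P => (W x : Set X)) (fun x => (W x).2) fun x hx => Set.mem_iUnion.2 ⟨⟨x, hx⟩, hxW _⟩
  have key : ∀ s : Finset P, BddU A (s.sup W) := by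
    intro s
    induction s using Finset.induction with
    | empty =>
      obtain ⟨d, hd⟩ := bddU_le_affine A hA (isAffineOpen_bot X) (le_refl ⊥)
      exact ⟨d, hd⟩
    | insert a s _ ih =>
      rw [Finset.sup_insert]
      exact bddU_sup A (bddU_affine A hA (hW a)) ih (bddU_le_affine A hA (hW a) inf_le_left)
  have e : P = t.sup W := by
    refine le_antisymm (fun x hx => ?_) (Finset.sup_le fun i _ => hWP i)
    obtain ⟨y, hy, hxy⟩ := Set.mem_iUnion₂.1 (ht hx)
    exact (Finset.le_sup (f := W) hy) hxy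
  rw [e]
  exact key t

end GrothLib.RpushD7
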