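import Groth.Agent.Lib.FCoh7.RpushFormal
import Groth.Agent.Lib.ColimCoh.Top
import Groth.Agent.Lib.ColimCoh.RpushColim
import Groth.Prelude.Def_FSch5

/-!
# Higher direct images of modules on formal schemes and filtered colimits
-/

set_option autoImplicit false
set_option linter.style.haveILetI false
set_option linter.unusedSectionVars false
set_option maxHeartbeats 1000000
universe u

open CategoryTheory CategoryTheory.Limits AlgebraicGeometry TopologicalSpace Opposite

noncomputable section

namespace GrothLib.RpushD7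

variable {𝔛 𝔜 : FSch.Sys.{u}} (h : 𝔛.IsFormal) (h' : 𝔜.IsFormal) (f : 𝔛 ⟶ 𝔜)
  [HasInjectiveResolutions (FSch.ModF 𝔛 h)]

/-- On a Noetherian space the higher direct images commute with filtered colimits. -/
theorem preservesColimit_rpushF [NoetherianSpace (𝔛.X 0)] (p : ℕ) {I : Type u} [SmallCategory I] [IsFiltered I]
    (F : I ⥤ FSch.ModF 𝔛 h) : PreservesColimit F (FSch.RpushF f h h' p) := by
  haveI := SheafCoh.preservesColimitsOfSize_toSheaf (ModSite.ringSh (𝔛.Osh h))
  haveI := SheafCoh.preservesColimitsOfSize_toSheaf (ModSite.ringSh (𝔜.Osh h'))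
  let S := SheafOfModules.toSheaf.{u} (ModSite.ringSh (𝔛.Osh h))
  let J := Opens.grothendieckTopology (𝔜.X 0).toTopCat
  obtain ⟨e⟩ := FCoh7.nonempty_rpushF_natIso h f h' p
  haveI : PrespectralSpace ↑(𝔛.X 0).toTopCat := inferInstanceAs (PrespectralSpace ↥(𝔛.X 0))
  haveI : PreservesColimit F (FCoh7.cohPreF h f p ⋙ presheafToSheaf J AddCommGrpCat.{u}) :=
    ColimCoh.preservesColimit_comp_sheafify J (FCoh7.cohPreF h f p) F fun V =>
      ⟨PUnit, fun _ => V, fun _ => 𝟙 V, J.superset_covering (S := ⊤)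
        (fun W g _ => ⟨_, g, 𝟙 V, ⟨PUnit.unit⟩, Category.comp_id g⟩) (J.top_mem V), fun _ => by
        let W : (𝔛.X 0).Opens := (f : FSch.Hom 𝔛 𝔜).app 0 ⁻¹ᵁ V
        have hc : IsCompact (W : Set (𝔛.X 0)) := NoetherianSpace.isCompact _
        have hq : IsQuasiSeparated (W : Set (𝔛.X 0)) := fun _ _ _ _ _ _ _ _ => NoetherianSpace.isCompact _
        haveI := ColimCoh.preservesColimit_cohomology_of_isQuasiSeparated (X := (𝔛.X 0).toTopCat) hq hc (F ⋙ S) p
        exact @preservesColimit_of_natIso _ _ _ _ _ _ F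
          (S ⋙ (Sheaf.cohomologyPresheafFunctor (Opens.grothendieckTopology (𝔛.X 0).toTopCat) p).flip.obj (op W))
          (FCoh7.cohPreF h f p ⋙ (evaluation _ AddCommGrpCat.{u}).obj (op V))
          (NatIso.ofComponents (fun _ => Iso.refl _) (fun {A B} φ => by ext x; rfl)) inferInstance⟩
  haveI : PreservesColimit F (FSch.RpushF f h h' p ⋙ SheafOfModules.toSheaf _) :=
    preservesColimit_of_natIso F e.symm
  haveI : (SheafOfModules.toSheaf.{u} (ModSite.ringSh (𝔜.Osh h'))).ReflectsIsomorphisms := inferInstance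
  haveI : ReflectsColimit (F ⋙ FSch.RpushF f h h' p) (SheafOfModules.toSheaf.{u} (ModSite.ringSh (𝔜.Osh h'))) :=
    reflectsColimit_of_reflectsIsomorphisms _ _
  exact preservesColimit_of_reflects_of_preserves (FSch.RpushF f h h' p) (SheafOfModules.toSheaf _)

end GrothLib.RpushD7
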