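import Groth.Agent.Lib.SiteDer.PushBound
import Groth.Agent.Lib.CptBdd19.Main
import Groth.Agent.Lib.DerCat.HomologyCoproduct
import Groth.Agent.Lib.HoCat.DerivedCoproduct
import Groth.Agent.Lib.DerComp.Generate
import Mathlib.CategoryTheory.Limits.Constructions.Filtered
import Mathlib.CategoryTheory.Abelian.GrothendieckAxioms.Colim

/-!
# Homology of small coproducts, and isomorphisms tested on generators
-/

set_option autoImplicit false
set_option linter.style.haveILetI false
set_option linter.unusedSectionVars false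
universe w w' v u

open CategoryTheory CategoryTheory.Limits Opposite Pretriangulated

noncomputable section

namespace GrothLib.RpushD7

section Abelian

variable {A : Type u} [Category.{v} A] [Abelian A] [IsGrothendieckAbelian.{v} A] {α : Type v} [DecidableEq α]

/-- The projections of a coproduct are jointly monic. -/
theorem eq_zero_of_comp_sigmaπ (H : α → A) {Z : A} (x : Z ⟶ ∐ H) (hx : ∀ k, x ≫ Sigma.π H k = 0) : x = 0 := by
  let t : (∐ H) ⟶ ∏ᶜ H := Pi.lift (Sigma.π H)
  let c := CoproductsFromFiniteFiltered.finiteSubcoproductsCocone H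
  let φ : CoproductsFromFiniteFiltered.liftToFinsetObj (Discrete.functor H) ⟶
      (Functor.const (Finset (Discrete α))).obj (∏ᶜ H) :=
    { app := fun S => c.ι.app S ≫ t
      naturality := fun S S' a => by
        refine (Category.assoc _ _ _).symm.trans (Eq.trans ?_ (Category.comp_id _).symm)
        exact congrArg (· ≫ t) (c.w a) }
  haveI : ∀ S, Mono (φ.app S) := fun S => by
    let g : S → A := fun x => H x.1.as
    let r : (∏ᶜ H) ⟶ ∐ g := ∑ y : S, Pi.π H y.1.as ≫ Sigma.ι g y
    have e : φ.app S ≫ r = 𝟙 (∐ g) := Sigma.hom_ext _ _ fun y => by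
      have h1 : Sigma.ι g y ≫ φ.app S = Sigma.ι H y.1.as ≫ t := by
        exact (Category.assoc _ _ _).symm.trans (congrArg (· ≫ t) (Sigma.ι_desc _ _))
      refine (Category.assoc _ _ _).symm.trans ((congrArg (· ≫ r) h1).trans (Eq.trans ?_ (Category.comp_id _).symm))
      have h2 : ∀ z : S, (Sigma.ι H y.1.as ≫ t) ≫ Pi.π H z.1.as ≫ Sigma.ι g z =
          Sigma.ι H y.1.as ≫ Sigma.π H z.1.as ≫ Sigma.ι g z := fun z => by
        rw [Category.assoc, ← Category.assoc t]
        exact congrArg (fun e => Sigma.ι H y.1.as ≫ e ≫ Sigma.ι g z) (Pi.lift_π _ _)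
      refine (Preadditive.comp_sum _ _ _).trans ?_
      rw [Finset.sum_eq_single y]
      · rw [h2, Sigma.ι_π_eq_id_assoc]; rfl
      · intro z _ hz
        rw [h2, Sigma.ι_π_of_ne_assoc H (fun e : y.1.as = z.1.as => hz (Subtype.ext (Discrete.ext e.symm))),
          zero_comp]
      · exact fun hy => absurd (Finset.mem_univ y) hy
    haveI : Mono (φ.app S ≫ r) := e ▸ (inferInstance : Mono (𝟙 (∐ g)))
    exact mono_of_mono (φ.app S) r
  haveI : Mono φ := NatTrans.mono_of_mono_app φ
  have : Mono t := colim.map_mono' φ (CoproductsFromFiniteFiltered.isColimitFiniteSubproductsCocone H)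
    (isColimitConstCocone _ _) t fun S => (Category.comp_id _).symm
  refine (cancel_mono t).1 (Pi.hom_ext _ _ fun k => ?_)
  rw [Category.assoc, Pi.lift_π, hx, zero_comp, zero_comp]

variable [HasDerivedCategory.{w} A] (K : α → DerivedCategory A) [HasCoproduct K] (j : ℤ)

theorem homology_coprod_hom_ext {W : A}
    (g : (DerivedCategory.homologyFunctor A j).obj (∐ K) ⟶ W)
    (h : ∀ k, (DerivedCategory.homologyFunctor A j).map (Sigma.ι K k) ≫ g = 0) : g = 0 := by
  let L : α → CochainComplex A ℤ := fun k => DerivedCategory.Q.objPreimage (K k)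
  let e : ∀ k, DerivedCategory.Q.obj (L k) ≅ K k := fun k => DerivedCategory.Q.objObjPreimageIso (K k)
  let hc := isColimitCofanMkObjOfIsColimit DerivedCategory.Q L (Sigma.ι L) (coproductIsCoproduct L)
  let f : DerivedCategory.Q.obj (∐ L) ⟶ ∐ K := Cofan.IsColimit.desc hc fun k => (e k).hom ≫ Sigma.ι K k
  have hf : ∀ k, DerivedCategory.Q.map (Sigma.ι L k) ≫ f = (e k).hom ≫ Sigma.ι K k :=
    fun k => Cofan.IsColimit.fac hc _ k
  have : IsIso f := ⟨Sigma.desc (fun k => (e k).inv ≫ DerivedCategory.Q.map (Sigma.ι L k)),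
    Cofan.IsColimit.hom_ext hc _ _ (fun k => by
      show DerivedCategory.Q.map (Sigma.ι L k) ≫ _ = DerivedCategory.Q.map (Sigma.ι L k) ≫ _
      rw [reassoc_of% hf k, Sigma.ι_desc, Iso.hom_inv_id_assoc, Category.comp_id]),
    Sigma.hom_ext _ _ fun k => by
      rw [Sigma.ι_desc_assoc, Category.assoc, hf k, Iso.inv_hom_id_assoc, Category.comp_id]⟩
  let H := DerivedCategory.homologyFunctor A j
  let η := DerivedCategory.homologyFunctorFactors A j
  have h0 : η.inv.app (∐ L) ≫ H.map f ≫ g = 0 := by
    refine DerCat.homology_sigma_hom_ext L j _ fun k => ?_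
    have := η.inv.naturality (Sigma.ι L k)
    erw [reassoc_of% this]
    simp only [Functor.comp_map, H]
    rw [← Functor.map_comp_assoc, hf k, Functor.map_comp, Category.assoc, h k, comp_zero, comp_zero]
    rfl
  exact (cancel_epi (H.map f)).1 (((cancel_epi (η.inv.app (∐ L))).1 (h0.trans comp_zero.symm)).trans comp_zero.symm)

/-- Homology commutes with small coproducts. -/
theorem isIso_homologySigma : IsIso (Sigma.desc fun k => (DerivedCategory.homologyFunctor A j).map (Sigma.ι K k)) := by
  classical
  let H := DerivedCategory.homologyFunctor A j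
  let s := Sigma.desc fun k => H.map (Sigma.ι K k)
  have : Epi s := Preadditive.epi_of_cancel_zero _ fun g hg => homology_coprod_hom_ext K j g fun k => by
    have h := congrArg (fun t => Sigma.ι (fun n => H.obj (K n)) k ≫ t) hg
    simpa [s] using h
  have : Mono s := Preadditive.mono_of_cancel_zero _ fun x hx =>
    eq_zero_of_comp_sigmaπ _ x fun k => by
      have h1 : s ≫ H.map (Sigma.π K k) = Sigma.π (fun n => H.obj (K n)) k := Sigma.hom_ext _ _ fun l => by
        rw [Sigma.ι_desc_assoc, ← Functor.map_comp]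
        by_cases hl : l = k
        · subst hl
          rw [Sigma.ι_π_eq_id, Sigma.ι_π_eq_id, CategoryTheory.Functor.map_id]
        · rw [Sigma.ι_π_of_ne _ hl, Sigma.ι_π_of_ne _ hl, Functor.map_zero]
      rw [← h1, ← Category.assoc, hx, zero_comp]
  exact isIso_of_mono_of_epi _

/-- A coproduct of maps which are bijective on homology is bijective on homology. -/
theorem isIso_homology_sigmaMap {L : α → DerivedCategory A} [HasCoproduct L] (p : ∀ k, K k ⟶ L k)
    (hp : ∀ k, IsIso ((DerivedCategory.homologyFunctor A j).map (p k))) :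
    IsIso ((DerivedCategory.homologyFunctor A j).map (Limits.Sigma.map p)) := by
  let H := DerivedCategory.homologyFunctor A j
  haveI := isIso_homologySigma K j
  haveI := isIso_homologySigma L j
  haveI := hp
  let a := Sigma.desc fun k => H.map (Sigma.ι K k)
  let b := Sigma.desc fun k => H.map (Sigma.ι L k)
  let m := Sigma.mapIso fun k => @asIso _ _ _ _ (H.map (p k)) (hp k)
  have e : a ≫ H.map (Limits.Sigma.map p) = m.hom ≫ b := Sigma.hom_ext _ _ fun k => by
    simp [a, b, m, H, ← Functor.map_comp]
  rw [show H.map (Limits.Sigma.map p) = inv a ≫ m.hom ≫ b by rw [← e, IsIso.inv_hom_id_assoc]]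
  infer_instance

end Abelian

section Gen

open GrothLib.SiteDer

variable {C : Type w} [SmallCategory C] {J : GrothendieckTopology C} {A : Type u} [Category.{v} A] [Abelian A]
  [HasDerivedCategory.{w'} A] {G : C ⥤ A}

/-- A map bijective on maps out of generators on a basis induces an isomorphism of cohomology objects. -/
theorem isIso_homology_of_gen (hG : IsLocGen J G) {E E' : DerivedCategory A} (a : E ⟶ E') (j : ℤ) (B : Set C)
    (hB : ∀ U : C, ∃ (ι : Type w) (Y : ι → C) (g : ∀ i, Y i ⟶ U), Sieve.ofArrows Y g ∈ J U ∧ ∀ i, Y i ∈ B)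
    (h : ∀ V ∈ B, Function.Bijective
      (fun φ : (DerivedCategory.singleFunctor A j).obj (G.obj V) ⟶ E => φ ≫ a)) :
    IsIso ((DerivedCategory.homologyFunctor A j).map a) := by
  let H := (DerivedCategory.homologyFunctor A j).map a
  have hsurj : ∀ U (g : G.obj U ⟶ (DerivedCategory.homologyFunctor A j).obj E'),
      Locally J U (fun _ f => ∃ g', g' ≫ H = G.map f ≫ g) := by
    intro U g
    obtain ⟨T, hT, hTP⟩ := hG.exists_theta g
    have hst : ∀ ⦃W W' : C⦄ (f : W ⟶ U) (k : W' ⟶ W),
        (∃ g', g' ≫ H = G.map f ≫ g) → ∃ g', g' ≫ H = G.map (k ≫ f) ≫ g := fun W W' f k ⟨g', hg'⟩ =>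
      ⟨G.map k ≫ g', by rw [Category.assoc, hg', Functor.map_comp, Category.assoc]⟩
    refine Locally.trans hst hT fun W f hf => ?_
    obtain ⟨ψ, hψ⟩ := hTP f hf
    obtain ⟨ι, Y, b, hb, hYB⟩ := hB W
    refine Locally.trans_family (fun W' W'' c k hk => by simpa only [Category.assoc] using hst _ k hk) b hb
      fun i => Locally.of_forall fun V k => ?_
    obtain ⟨φ, hφ⟩ := (h _ (hYB i)).2 ((DerivedCategory.singleFunctor A j).map (G.map (b i)) ≫ ψ)
    simp only at hφ
    refine ⟨G.map k ≫ theta φ, ?_⟩
    rw [Category.assoc, ← theta_comp, hφ, theta_map_comp, hψ]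
    simp only [Functor.map_comp, Category.assoc]
  have : Mono H := hG.mono _ fun U g hg => Locally.of_theta hG g fun W f φ hφ => by
    have h0 : theta (φ ≫ a) = 0 := by rw [theta_comp, hφ, Category.assoc, hg, comp_zero]
    obtain ⟨T, hT, hTP⟩ := hG.eq_zero_of_theta _ h0
    have hdc : ∀ ⦃V V' : C⦄ (c : V ⟶ W) (k : V' ⟶ V),
        (DerivedCategory.singleFunctor A j).map (G.map c) ≫ φ = 0 →
          (DerivedCategory.singleFunctor A j).map (G.map (k ≫ c)) ≫ φ = 0 := fun V V' c k h => by
      rw [G.map_comp, Functor.map_comp, Category.assoc, h, comp_zero]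
    refine Locally.trans hdc hT fun V c hc => ?_
    obtain ⟨ι, Y, b, hb, hYB⟩ := hB V
    refine Locally.trans_family (fun V' V'' d k h => by simpa only [Category.assoc] using hdc _ k h) b hb
      fun i => Locally.of_forall fun V' k => ?_
    rw [Category.assoc]
    refine hdc (b i ≫ c) k ?_
    apply (h _ (hYB i)).1
    simp only [Functor.map_comp, Category.assoc, zero_comp]
    rw [hTP c hc, comp_zero]
  have : Epi H := hG.epi _ hsurj
  exact isIso_of_mono_of_epi _

end Gen

end GrothLib.RpushD7
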