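import Groth.Agent.Lib.RpushD7.Coprod
import Groth.Agent.Lib.OX.RpushCoprodBdd
import Groth.Agent.Lib.ColimCoh.Top

/-!
# Direct images and coproducts of uniformly bounded below families on ringed spaces
-/

set_option autoImplicit false
set_option linter.style.haveILetI false
set_option linter.unusedSectionVars false
set_option maxHeartbeats 800000
universe u

open CategoryTheory CategoryTheory.Limits Opposite TopologicalSpace Pretriangulated
open GrothLib.TriCat (FinHom homSum_of homSum_π)
open GrothLib.OX (finHom_leftAdjoint add_of_natural)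

attribute [local instance] HasDerivedCategory.standard
attribute [local instance] Classical.decEq

noncomputable section

namespace GrothLib.RpushD7

variable {T : TopCat.{u}} [PrespectralSpace T]
  (O : Sheaf (Opens.grothendieckTopology T) CommRingCat.{u})

/-- `Ext` out of a generator is cohomology over the open, naturally. -/
theorem nonempty_extGenIso (U : Opens T) (p : ℕ) :
    Nonempty ((Abelian.extFunctor.{u} p).obj (op ((SiteDer.freeMod O).obj U)) ≅
      SheafOfModules.toSheaf.{u} (ModSite.ringSh O) ⋙
        (Sheaf.cohomologyPresheafFunctor (Opens.grothendieckTopology T) p).flip.obj (op U)) := by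
  let R := ModSite.ringSh O
  have := SheafCoh.enoughInjectives_sheafOfModules R
  have := SheafCoh.preservesHomology_toSheaf R
  have htf := OX.torsionFree_freeY (Opens.grothendieckTopology T) U
  obtain ⟨c⟩ := DimShift.nonempty_comparison (SheafOfModules.toSheaf.{u} R)
    ((SiteDer.freeMod O).obj U) (SheafCoh.freeY (Opens.grothendieckTopology T) U) (fun _ => True)
    (fun _ _ => trivial)
    (fun S hS _ _ => ⟨trivial, by
      have := hS.mono_f
      have := hS.epi_g
      have := SheafCoh.preservesEpimorphisms_toSheaf R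
      have : PreservesLimitsOfSize.{0, 0} (SheafOfModules.toSheaf.{u} R) :=
        (SiteDer.tensShAdj R).rightAdjoint_preservesLimits
      exact { exact := hS.exact.map _
              mono_f := inferInstanceAs (Mono ((SheafOfModules.toSheaf R).map S.f))
              epi_g := inferInstanceAs (Epi ((SheafOfModules.toSheaf R).map S.g)) }⟩)
    (fun I hI m => @SheafCoh.subsingleton_ext_injective_module _ _ _ R _ htf I hI m)
    (fun F => (SiteDer.tensShAdj R).homAddEquiv _ F)
    (fun φ a => (SiteDer.tensShAdj R).homEquiv_naturality_right a φ) p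
  refine ⟨NatIso.ofComponents (fun F => AddEquiv.toAddCommGrpIso
    ((c.equiv F trivial).trans (SheafCoh.HUext _ p U).symm)) fun {F G} φ => ?_⟩
  ext x
  exact (congrArg (SheafCoh.HUext _ p U).symm (c.naturality φ trivial trivial x)).trans
    ((AddEquiv.symm_apply_eq _).2 ((SheafCoh.map_eq _ p U _).trans
      (congrArg (fun t => Abelian.Ext.comp t (Abelian.Ext.mk₀ ((SheafOfModules.toSheaf R).map φ)) (add_zero p))
        (AddEquiv.apply_symm_apply _ (c.equiv F trivial x)))).symm)

/-- `Ext` out of the generator at a compact quasi-separated open commutes with direct sums. -/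
theorem preservesColimit_ext_gen {U : Opens T} (hUc : IsCompact (U : Set T))
    (hU : IsQuasiSeparated (U : Set T)) (p : ℕ) {ι : Type u} (H : ι → ModSite.Mod O) :
    PreservesColimit (Discrete.functor H) ((Abelian.extFunctor.{u} p).obj (op ((SiteDer.freeMod O).obj U))) := by
  obtain ⟨e⟩ := nonempty_extGenIso O U p
  have := SheafCoh.preservesColimitsOfSize_toSheaf.{u} (ModSite.ringSh O)
  let secF := SheafOfModules.toSheaf.{u} (ModSite.ringSh O) ⋙
    (Sheaf.cohomologyPresheafFunctor (Opens.grothendieckTopology T) p).flip.obj (op U)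
  have h1 : PreservesColimitsOfShape (Finset (Discrete ι))
      ((Sheaf.cohomologyPresheafFunctor (Opens.grothendieckTopology T) p).flip.obj (op U)) :=
    ⟨fun {K} => ColimCoh.preservesColimit_cohomology_of_isQuasiSeparated hU hUc K p⟩
  have : PreservesColimitsOfShape (Finset (Discrete ι)) (SheafOfModules.toSheaf.{u} (ModSite.ringSh O)) :=
    this.preservesColimitsOfShape
  have : PreservesColimitsOfShape (Finset (Discrete ι)) secF :=
    @comp_preservesColimitsOfShape _ _ _ _ _ _ _ _ _ _ this h1
  have : ((Abelian.extFunctor.{u} p).obj (op ((SiteDer.freeMod O).obj U))).Additive :=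
    inferInstanceAs (Abelian.extFunctorObj ((SiteDer.freeMod O).obj U) p).Additive
  have : PreservesColimitsOfShape (Finset (Discrete ι)) ((Abelian.extFunctor.{u} p).obj (op ((SiteDer.freeMod O).obj U))) :=
    preservesColimitsOfShape_of_natIso e.symm
  have := CohDer19.preservesColimitsOfShape_discrete
    ((Abelian.extFunctor.{u} p).obj (op ((SiteDer.freeMod O).obj U))) (α := ι)
  infer_instance

/-- Generators at compact quasi-separated opens see direct sums of uniformly bounded below families. -/
theorem finHom_gen_of_isGE {ι : Type u} (K : ι → DerivedCategory (ModSite.Mod O)) [HasCoproduct K] (n : ℤ)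
    (hK : ∀ i, (K i).IsGE n) {U : Opens T} (hUc : IsCompact (U : Set T)) (hU : IsQuasiSeparated (U : Set T)) (j : ℤ) :
    FinHom K ((DerivedCategory.singleFunctor (ModSite.Mod O) j).obj ((SiteDer.freeMod O).obj U)) := by
  have : IsGrothendieckAbelian.{u} (ModSite.Mod O) := KInj.isGrothendieckAbelian_sheafOfModules _
  have := HoCat.derivedCategory_hasColimitsOfShape (C := ModSite.Mod O) (J := ι)
  let M : ι → DerivedCategory (ModSite.Mod O) := fun i => (K i)⟦j⟧
  have hM : ∀ i, (M i).IsGE (n - j) := fun i =>
    have := hK i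
    DerivedCategory.TStructure.t.isGE_shift _ n j (n - j) (by omega)
  have h0 : FinHom M ((DerivedCategory.singleFunctor (ModSite.Mod O) 0).obj ((SiteDer.freeMod O).obj U)) :=
    CptBdd19.finHom_of_isGE (fun p H => preservesColimit_ext_gen O hUc hU p H) M _ hM
  have hiso : IsIso (Sigma.desc fun i => (shiftFunctor (DerivedCategory (ModSite.Mod O)) j).map (Sigma.ι K i)) :=
    inferInstanceAs (IsIso (sigmaComparison (shiftFunctor (DerivedCategory (ModSite.Mod O)) j) K))
  exact FinHom.of_iso (((DerivedCategory.singleFunctors (ModSite.Mod O)).shiftIso (-j) j 0 (by omega)).app _)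
    (finHom_leftAdjoint (shiftEquiv (DerivedCategory (ModSite.Mod O)) j).symm.toAdjunction K hiso
      (inferInstanceAs (shiftFunctor (DerivedCategory (ModSite.Mod O)) (-j)).Additive) h0)

variable {O} {S : TopCat.{u}} [PrespectralSpace S] {O' : Sheaf (Opens.grothendieckTopology S) CommRingCat.{u}}
  (f : ModSite.RMor O O') {ι : Type u}

/-- `Rf_*` commutes with direct sums of uniformly bounded below families. -/
theorem isIso_homology_Rres_coprod_of_isGE (B : Set (Opens S))
    (hB : ∀ U : Opens S, ∃ (κ : Type u) (Y : κ → Opens S) (g : ∀ i, Y i ⟶ U),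
      Sieve.ofArrows Y g ∈ Opens.grothendieckTopology S U ∧ ∀ i, Y i ∈ B)
    (hBq : ∀ V ∈ B, IsCompact (V : Set S) ∧ IsQuasiSeparated (V : Set S) ∧
      IsCompact (f.fn.obj V : Set T) ∧ IsQuasiSeparated (f.fn.obj V : Set T))
    (K : ι → DerivedCategory (ModSite.Mod O)) [HasCoproduct K]
    [HasCoproduct fun i => (SiteDer.Rres f).obj (K i)] (n : ℤ) (hK : ∀ i, (K i).IsGE n) (j : ℤ) :
    IsIso ((DerivedCategory.homologyFunctor (ModSite.Mod O') j).map
      (Sigma.desc fun i => (SiteDer.Rres f).map (Sigma.ι K i))) := by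
  let R := SiteDer.Rres f
  haveI : R.Additive := OX.additive_Rres f
  let RK := fun i => R.obj (K i)
  let a : (∐ RK) ⟶ R.obj (∐ K) := Sigma.desc fun i => R.map (Sigma.ι K i)
  have hRK : ∀ i, (RK i).IsGE n := fun i => by
    refine @SiteDer.isGE_Rres _ _ _ _ _ _ _ _ f (K i) n ?_
    exact hK i
  refine isIso_homology_of_gen (SiteDer.isLocGen_freeMod (ModSite.ringSh O')) a j B hB fun W hW => ?_
  obtain ⟨hWc, hWq, hPc, hPq⟩ := hBq W hW
  let gW := (DerivedCategory.singleFunctor (ModSite.Mod O') j).obj ((SiteDer.freeMod O').obj W)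
  let gT := (DerivedCategory.singleFunctor (ModSite.Mod O) j).obj ((SiteDer.freeMod O).obj (f.fn.obj W))
  let e : ∀ E, (gW ⟶ R.obj E) ≃ (gT ⟶ E) := fun E => SiteDer.pushHomEquiv f W j E
  have hπ : ∀ k, a ≫ R.map (Sigma.π K k) = Sigma.π RK k := fun k => Sigma.hom_ext _ _ fun i => by
    rw [Sigma.ι_desc_assoc, ← R.map_comp]
    by_cases hi : i = k
    · subst hi; rw [Sigma.ι_π_eq_id, Sigma.ι_π_eq_id, R.map_id]
    · rw [Sigma.ι_π_of_ne _ hi, Sigma.ι_π_of_ne _ hi, R.map_zero]
  refine ⟨fun φ φ' h => ?_, fun ψ => ?_⟩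
  · obtain ⟨c, rfl⟩ := finHom_gen_of_isGE O' RK n hRK hWc hWq j φ
    obtain ⟨c', rfl⟩ := finHom_gen_of_isGE O' RK n hRK hWc hWq j φ'
    refine congrArg _ (DFinsupp.ext fun k => ?_)
    rw [← homSum_π RK gW c k, ← homSum_π RK gW c' k, ← hπ k, ← Category.assoc, ← Category.assoc]
    exact congrArg (· ≫ R.map (Sigma.π K k)) h
  · obtain ⟨c, hc⟩ := finHom_gen_of_isGE O K n hK hPc hPq j (e _ ψ)
    have he : ∀ (E) (x y : gW ⟶ R.obj E), e E (x + y) = e E x + e E y :=
      fun E x y => add_of_natural R e (fun g φ => SiteDer.pushHomEquiv_comp f W j g φ) E x y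
    have key : ∀ c, ∃ φ, e _ (φ ≫ a) = PerfAux.homSumToHomCoprod gT K c := by
      intro c
      induction c using DirectSum.induction_on with
      | zero =>
        exact ⟨0, ((congrArg (e _) zero_comp).trans (SiteDer.pushHomEquiv_zero f W j _)).trans
          (map_zero (PerfAux.homSumToHomCoprod gT K)).symm⟩
      | of k x =>
        refine ⟨(e _).symm x ≫ Sigma.ι RK k, ?_⟩
        rw [Category.assoc, Sigma.ι_desc, homSum_of]
        exact (SiteDer.pushHomEquiv_comp f W j _ _).trans
          (congrArg (· ≫ Sigma.ι K k) ((e _).apply_symm_apply x))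
      | add x y hx hy =>
        obtain ⟨φ, hφ⟩ := hx
        obtain ⟨φ', hφ'⟩ := hy
        exact ⟨φ + φ', by rw [Preadditive.add_comp, he, hφ, hφ', map_add]⟩
    obtain ⟨φ, hφ⟩ := key c
    exact ⟨φ, (e _).injective (hφ.trans hc)⟩

end GrothLib.RpushD7
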