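import Groth.Agent.Lib.RpushD7.Coprod
import Groth.Agent.Lib.TriCat.BrownSmall
import Groth.Agent.Lib.TriCat.BrownCorollaries
import Groth.Agent.Lib.OX.DQCohBrown
import Mathlib.Algebra.Category.ModuleCat.AB
import Mathlib.Algebra.Category.ModuleCat.Projective

/-!
# The derived category of modules over a ring is perfectly generated
-/

set_option autoImplicit false
set_option linter.style.haveILetI false
set_option linter.unusedSectionVars false
universe u u'

open CategoryTheory CategoryTheory.Limits Opposite Pretriangulated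

attribute [local instance] HasDerivedCategory.standard

noncomputable section

namespace GrothLib.RpushD7

open GrothLib.SiteDer

variable (R : Type u) [Ring R]

/-- The free module of rank one, on the one point site. -/
def oneGen : Discrete PUnit.{u + 1} ⥤ ModuleCat.{u} R :=
  (Functor.const _).obj (ModuleCat.of R R)

theorem exists_hom_one {M : ModuleCat.{u} R} (x : M) :
    ∃ g : ModuleCat.of R R ⟶ M, g.hom (1 : R) = x :=
  ⟨ModuleCat.ofHom (LinearMap.toSpanSingleton R M x), by simp⟩

theorem isLocGen_oneGen : IsLocGen (⊥ : GrothendieckTopology (Discrete PUnit.{u + 1})) (oneGen R) where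
  lift {M N} p _ {U} g := by
    obtain ⟨x, hx⟩ := (ModuleCat.epi_iff_surjective p).1 inferInstance (g.hom (1 : R))
    obtain ⟨h, hh⟩ := exists_hom_one R x
    refine Locally.of_forall fun V f => ⟨h, ModuleCat.hom_ext (LinearMap.ext_ring ?_)⟩
    show p.hom (h.hom (1 : R)) = g.hom _
    rw [hh, hx]
  sep {M U} g hg := by
    obtain ⟨S, hS, hS'⟩ := hg
    have hS0 : S = ⊤ := by simpa using hS
    have h1 := hS' (𝟙 U) (by rw [hS0]; trivial)
    simpa using h1
  mono {M N} p h := by
    rw [ModuleCat.mono_iff_injective, injective_iff_map_eq_zero]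
    intro x hx
    obtain ⟨g, hg⟩ := exists_hom_one R x
    have h0 := h ⟨PUnit.unit⟩ g (ModuleCat.hom_ext (LinearMap.ext_ring (by
      show p.hom (g.hom (1 : R)) = _
      rw [hg]
      exact hx)))
    rw [← hg, h0]
    rfl
  epi {M N} p h := by
    rw [ModuleCat.epi_iff_surjective]
    intro y
    obtain ⟨g, hg⟩ := exists_hom_one R y
    obtain ⟨S, hS, hS'⟩ := h ⟨PUnit.unit⟩ g
    have hS0 : S = ⊤ := by simpa using hS
    obtain ⟨q, hq⟩ := hS' (𝟙 _) (by rw [hS0]; trivial)
    refine ⟨q.hom (1 : R), ?_⟩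
    have := congrArg (fun φ : ModuleCat.of R R ⟶ N => φ.hom (1 : R)) hq
    refine this.trans ?_
    simpa using hg

/-- Maps out of the free module in one degree are elements of cohomology. -/
theorem bijective_theta (E : DerivedCategory (ModuleCat.{u} R)) (j : ℤ) :
    Function.Bijective (fun φ : (DerivedCategory.singleFunctor (ModuleCat.{u} R) j).obj (ModuleCat.of R R) ⟶ E =>
      theta φ) := by
  let U : Discrete PUnit.{u + 1} := ⟨PUnit.unit⟩
  refine ⟨fun φ ψ h => ?_, fun g => ?_⟩
  · obtain ⟨S, hS, hS'⟩ := (isLocGen_oneGen R).eq_zero_of_theta (U := U) (E := E) (φ - ψ) (by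
      change theta (φ - ψ) = 0
      have hsub : theta (φ - ψ) = theta φ - theta ψ := by simp [theta, Functor.map_sub]
      rw [hsub]
      exact sub_eq_zero.2 h)
    have hS0 : S = ⊤ := by simpa using hS
    have h1 := hS' (𝟙 U) (by rw [hS0]; trivial)
    refine sub_eq_zero.1 (Eq.trans ?_ h1)
    rw [CategoryTheory.Functor.map_id, CategoryTheory.Functor.map_id]
    exact (Category.id_comp _).symm
  · obtain ⟨S, hS, hS'⟩ := (isLocGen_oneGen R).exists_theta (U := U) (E := E) g
    have hS0 : S = ⊤ := by simpa using hS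
    obtain ⟨φ, hφ⟩ := hS' (𝟙 U) (by rw [hS0]; trivial)
    exact ⟨φ, hφ.trans (by simp)⟩

/-- The shifts of the free module. -/
def derFree (k : ULift.{u} ℤ) : DerivedCategory (ModuleCat.{u} R) :=
  (DerivedCategory.singleFunctor (ModuleCat.{u} R) k.down).obj (ModuleCat.of R R)

theorem small_hom_derFree (k : ULift.{u} ℤ) (X : DerivedCategory (ModuleCat.{u} R)) :
    Small.{u} (derFree R k ⟶ X) :=
  small_of_injective (bijective_theta R X k.down).1

theorem isShiftClosed_derFree : TriCatS.IsShiftClosedFamily (derFree R) := fun k m =>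
  ⟨⟨k.down - m⟩, ⟨((DerivedCategory.singleFunctors (ModuleCat.{u} R)).shiftIso m (k.down - m) k.down (by omega)).app _⟩⟩

theorem epi_homology_sigmaMap {A B : ℕ → DerivedCategory (ModuleCat.{u} R)}
    [HasCoproduct A] [HasCoproduct B] (φ : ∀ n, A n ⟶ B n) (j : ℤ)
    (hφ : ∀ n, Epi ((DerivedCategory.homologyFunctor (ModuleCat.{u} R) j).map (φ n))) :
    Epi ((DerivedCategory.homologyFunctor (ModuleCat.{u} R) j).map (Limits.Sigma.map φ)) := by
  classical
  have := HoCat.derivedCategory_hasColimitsOfShape (C := ModuleCat.{u} R) (J := ULift.{u} ℕ)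
  let H := DerivedCategory.homologyFunctor (ModuleCat.{u} R) j
  let B' : ULift.{u} ℕ → DerivedCategory (ModuleCat.{u} R) := fun n => B n.down
  let e : (∐ B') ⟶ ∐ B := Sigma.desc fun n => Sigma.ι B n.down
  let e' : (∐ B) ⟶ ∐ B' := Sigma.desc fun n => Sigma.ι B' ⟨n⟩
  have he : e' ≫ e = 𝟙 _ := Sigma.hom_ext _ _ fun n => by simp [e, e', B']
  haveI : Epi (H.map e) := by
    haveI : IsSplitEpi (H.map e) := ⟨⟨⟨H.map e', by rw [← Functor.map_comp, he, CategoryTheory.Functor.map_id]⟩⟩⟩
    infer_instance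
  refine Preadditive.epi_of_cancel_zero _ fun {W} g hg => ?_
  refine (cancel_epi (H.map e)).1 ((homology_coprod_hom_ext B' j (H.map e ≫ g) fun n => ?_).trans comp_zero.symm)
  haveI := hφ n.down
  refine (cancel_epi (H.map (φ n.down))).1 ?_
  have hs : φ n.down ≫ Sigma.ι B' n ≫ e = Sigma.ι A n.down ≫ Limits.Sigma.map φ := by simp [e, B']
  rw [← Functor.map_comp_assoc, ← Functor.map_comp_assoc, Category.assoc, hs, Functor.map_comp, Category.assoc]
  exact (congrArg (_ ≫ ·) hg).trans (comp_zero.trans comp_zero.symm)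

variable [HasColimitsOfShape (Discrete ℕ) (DerivedCategory (ModuleCat.{u} R))]

theorem isPerfectFamily_derFree : TriCatS.IsPerfectFamily (derFree R) := by
  intro A B φ hφ k b
  let H := DerivedCategory.homologyFunctor (ModuleCat.{u} R) k.down
  haveI : Epi (H.map (Limits.Sigma.map φ)) := epi_homology_sigmaMap R φ k.down fun n => by
    rw [ModuleCat.epi_iff_surjective]
    intro y
    obtain ⟨g, hg⟩ := exists_hom_one R y
    obtain ⟨ψ, hψ⟩ := (bijective_theta R (B n) k.down).2 g
    obtain ⟨a, ha⟩ := hφ n k ψ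
    refine ⟨(theta a).hom (1 : R), ?_⟩
    rw [← hg, ← hψ, ← ha]
    exact (congrArg (fun t => t.hom (1 : R)) (theta_comp a (φ n))).symm
  obtain ⟨x, hx⟩ := (ModuleCat.epi_iff_surjective (H.map (Limits.Sigma.map φ))).1 inferInstance
    ((theta b).hom (1 : R))
  obtain ⟨g, hg⟩ := exists_hom_one R x
  obtain ⟨a, ha⟩ := (bijective_theta R (∐ A) k.down).2 g
  refine ⟨a, (bijective_theta R (∐ B) k.down).1 ?_⟩
  refine (theta_comp a (Limits.Sigma.map φ)).trans (ModuleCat.hom_ext (LinearMap.ext_ring ?_))
  show (H.map (Limits.Sigma.map φ)).hom ((theta a).hom (1 : R)) = _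
  rw [show theta a = g from ha, hg]
  exact hx

theorem isZero_of_derFree (X : DerivedCategory (ModuleCat.{u} R)) (h : ∀ k (f : derFree R k ⟶ X), f = 0) : IsZero X :=
  DerTrunc.isZero_of_forall X fun j => (isLocGen_oneGen R).isZero fun U g => by
    obtain ⟨φ, hφ⟩ := (bijective_theta R X j).2 g
    rw [← hφ, show φ = 0 from h ⟨j⟩ φ]
    exact theta_zero

omit [HasColimitsOfShape (Discrete ℕ) (DerivedCategory (ModuleCat.{u} R))] in
/-- Brown representability out of the derived category of modules. -/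
theorem isLeftAdjoint_derivedMod {D' : Type u'} [Category.{u + 1} D'] [Preadditive D'] [HasZeroObject D']
    [HasShift D' ℤ] [∀ n : ℤ, (shiftFunctor D' n).Additive] [Pretriangulated D']
    [∀ X Y : D', Small.{u} (X ⟶ Y)]
    (F : DerivedCategory (ModuleCat.{u} R) ⥤ D') [F.CommShift ℤ] [F.IsTriangulated]
    [∀ (κ : Type u), PreservesColimitsOfShape (Discrete κ) F] : F.IsLeftAdjoint := by
  haveI : HasCoproducts.{u} (DerivedCategory (ModuleCat.{u} R)) := fun J =>
    HoCat.derivedCategory_hasColimitsOfShape (C := ModuleCat.{u} R) (J := J)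
  haveI : HasColimitsOfShape (Discrete ℕ) (DerivedCategory (ModuleCat.{u} R)) :=
    hasColimitsOfShape_of_equivalence (Discrete.equivalence Equiv.ulift.{u, 0})
  haveI : ∀ k X, Small.{u} (derFree R k ⟶ X) := small_hom_derFree R
  exact TriCatS.isLeftAdjoint_of_perfect.{u, u + 1} (isShiftClosed_derFree R) (isPerfectFamily_derFree R)
    (isZero_of_derFree R) F

end GrothLib.RpushD7
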