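import Groth.Agent.Lib.SiteDer.PushBound

set_option linter.style.haveILetI false

/-! # Derived direct images and truncations for isomorphism-closed classes -/

universe u

open CategoryTheory CategoryTheory.Limits Opposite Pretriangulated

namespace GrothLib.RpushD7

open GrothLib.SiteDer

attribute [local instance] HasDerivedCategory.standard

variable {C : Type u} [SmallCategory C] {J : GrothendieckTopology C}
  {O_C : Sheaf J CommRingCat.{u}} {D : Type u} [SmallCategory D] {K : GrothendieckTopology D}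
  {O_D : Sheaf K CommRingCat.{u}} (f : ModSite.RMor O_C O_D)
  (P : ObjectProperty (ModSite.Mod O_C)) [P.IsClosedUnderIsomorphisms]

/-- The derived direct image and truncations: the key statement. -/
theorem isIso_homology_Rres_truncπ' (E : DerivedCategory (ModSite.Mod O_C)) (hE : WSerre.cohIn P E)
    (B : Set C)
    (hB : ∀ U : C, ∃ (ι : Type u) (Y : ι → C) (g : ∀ i, Y i ⟶ U),
      Sieve.ofArrows Y g ∈ J U ∧ ∀ i, Y i ∈ B)
    (hA : ∀ V ∈ B, ∃ d : ℕ, ∀ T ∈ J V, ∃ (ι : Type u) (Y : ι → C) (g : ∀ i, Y i ⟶ V),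
      (∀ i, T.arrows (g i)) ∧ Sieve.ofArrows Y g ∈ J V ∧
      ∀ (i : ι) (F : ModSite.Mod O_C), P F → ∀ k : ℕ, d < k → Subsingleton (ModSite.HU O_C F k (Y i)))
    (B' : Set D)
    (hB' : ∀ U : D, ∃ (ι : Type u) (Y : ι → D) (g : ∀ i, Y i ⟶ U),
      Sieve.ofArrows Y g ∈ K U ∧ ∀ i, Y i ∈ B')
    (hV : ∀ V ∈ B', ∃ d : ℤ, ∀ T ∈ K V, ∃ (ι : Type u) (Y : ι → D) (g : ∀ i, Y i ⟶ V),
      (∀ i, T.arrows (g i)) ∧ Sieve.ofArrows Y g ∈ K V ∧ ∀ i, VanD f P d (Y i))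
    (j : ℤ) (n : ℕ)
    (hconst : ∀ m : ℕ, n ≤ m → IsIso ((DerivedCategory.homologyFunctor (ModSite.Mod O_D) j).map
      ((Rres f).map ((DerivedCategory.TStructure.t.natTransTruncGEOfLE (-((m + 1 : ℕ) : ℤ)) (-(m : ℤ))
        (by omega)).app E)))) :
    IsIso ((DerivedCategory.homologyFunctor (ModSite.Mod O_D) j).map
      ((Rres f).map ((DerivedCategory.TStructure.t.truncGEπ (-(n : ℤ))).app E))) := by
  haveI : (Rres f).IsTriangulated := isTriangulated_res_map f.push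
  have := HoCat.derivedCategory_hasLimitsOfShape (A := ModSite.Mod O_C) ℕ
  have := HoCat.derivedCategory_hasLimitsOfShape (A := ModSite.Mod O_D) ℕ
  have hE' := isRlimVia_trunc (isLocGen_freeMod (ModSite.ringSh O_C)) E B hB fun V hV j' => by
    obtain ⟨d, hd⟩ := hA V hV
    refine ⟨((d : ℤ) - j' + 1).toNat + (-j').toNat + 2, fun T hT => ?_⟩
    obtain ⟨ι, Y, g, hg, hgT, hsub⟩ := hd T hT
    refine ⟨ι, Y, g, hg, hgT, fun i => goodAt_of_homology j' _ _ fun m hm => ?_⟩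
    obtain ⟨Z, a, c, hZT, hZ, hz, ⟨e⟩⟩ := exists_cone_truncMap E m
    refine ⟨Z, a, c, _, hZT, hZ, fun k q hk hqk ψ => ?_⟩
    by_cases hq : q = -(m : ℤ) - 2
    · subst hq
      have hk' : j' - 1 ≤ k := by rcases hk with rfl | rfl <;> omega
      obtain ⟨M, hM⟩ : ∃ M : ℕ, (M : ℤ) = k + m + 2 := ⟨(k + m + 2).toNat, by omega⟩
      exact eq_zero_of_subsingleton_HU _ _ k _ M (by omega)
        (hsub i _ (P.prop_of_iso e.symm (hE _)) M (by omega)) _
    · exact ((DerivedCategory.singleFunctor _ q).map_isZero (hz q hq)).eq_of_tgt _ _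
  have hR := isRlimVia_map (Rres f) hE' (isIso_piComparison_Rres f _)
  refine isIso_homology_rlim (isLocGen_freeMod (ModSite.ringSh O_D)) hR j n hconst B' hB'
    (fun V hVB => ?_) n le_rfl
  obtain ⟨d, hd⟩ := hV V hVB
  refine ⟨(d - j + 1).toNat + (-j).toNat + 2, fun T hT => ?_⟩
  obtain ⟨ι, Y, g, hg, hgT, hsub⟩ := hd T hT
  refine ⟨ι, Y, g, hg, hgT, fun i => GoodAt.of_cone _ j _ _ fun m hm => ?_⟩
  obtain ⟨Z, a, c, hZT, hZ, hz, ⟨e⟩⟩ := exists_cone_truncMap E m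
  have : Z.IsLE (-(m : ℤ) - 2) := (DerivedCategory.isLE_iff _ _).2 fun q hq => hz q (by omega)
  obtain ⟨eZ⟩ := DerTrunc.nonempty_iso_single Z (-(m : ℤ) - 2)
  refine ⟨_, _, _, (Rres f).map_distinguished _ hZT, ?_, ?_⟩ <;> intro φ <;>
    refine (cancel_mono ((Rres f).map eZ.hom)).1 ((hsub i _ (P.prop_of_iso e.symm (hE _)) _ _ ?_ _).trans
      zero_comp.symm) <;> omega

theorem isIso_homology_Rres_truncMap' [HasInjectiveResolutions (ModSite.Mod O_C)] (N : ℤ)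
    (h4 : ∀ M, P M → ∀ p : ℕ, N < (p : ℤ) → IsZero ((f.Rpush p).obj M))
    (E : DerivedCategory (ModSite.Mod O_C)) (hE : WSerre.cohIn P E) (j : ℤ) (m : ℕ)
    (hm : N - (m : ℤ) ≤ j) :
    IsIso ((DerivedCategory.homologyFunctor (ModSite.Mod O_D) j).map
      ((Rres f).map ((DerivedCategory.TStructure.t.natTransTruncGEOfLE (-((m + 1 : ℕ) : ℤ)) (-(m : ℤ))
        (by omega)).app E))) := by
  haveI : (Rres f).IsTriangulated := isTriangulated_res_map f.push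
  obtain ⟨Z, a, c, hZT, hZ, hz, ⟨e⟩⟩ := exists_cone_truncMap E m
  have : Z.IsLE (-(m : ℤ) - 2) := (DerivedCategory.isLE_iff _ _).2 fun q hq => hz q (by omega)
  obtain ⟨eZ⟩ := DerTrunc.nonempty_iso_single Z (-(m : ℤ) - 2)
  have hPZ := P.prop_of_iso e.symm (hE _)
  have h0 : ∀ i, N < i - (-(m : ℤ) - 2) →
      IsZero ((DerivedCategory.homologyFunctor (ModSite.Mod O_D) i).obj ((Rres f).obj Z)) := fun i hi =>
    (isZero_homology_Rres_single f _ (h4 _ hPZ) i _ hi).of_iso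
      ((DerivedCategory.homologyFunctor _ i).mapIso ((Rres f).mapIso eZ))
  exact DerTrunc.isIso_homology_mor₁ ((Rres f).map_distinguished _ hZT) j (h0 _ (by omega)) (h0 _ (by omega))

variable [SiteCmp.HasRpushD f]

/-- The truncation comparison. -/
theorem isIso_homology_RpushD_truncπ' [HasInjectiveResolutions (ModSite.Mod O_C)]
    (B : Set C)
    (hB : ∀ U : C, ∃ (ι : Type u) (Y : ι → C) (g : ∀ i, Y i ⟶ U),
      Sieve.ofArrows Y g ∈ J U ∧ ∀ i, Y i ∈ B)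
    (hA : ∀ V ∈ B, ∃ d : ℕ, ∀ T ∈ J V, ∃ (ι : Type u) (Y : ι → C) (g : ∀ i, Y i ⟶ V),
      (∀ i, T.arrows (g i)) ∧ Sieve.ofArrows Y g ∈ J V ∧
      ∀ (i : ι) (F : ModSite.Mod O_C), P F → ∀ k : ℕ, d < k → Subsingleton (ModSite.HU O_C F k (Y i)))
    (B' : Set D)
    (hB' : ∀ U : D, ∃ (ι : Type u) (Y : ι → D) (g : ∀ i, Y i ⟶ U),
      Sieve.ofArrows Y g ∈ K U ∧ ∀ i, Y i ∈ B')
    (hV : ∀ V ∈ B', ∃ d : ℤ, ∀ T ∈ K V, ∃ (ι : Type u) (Y : ι → D) (g : ∀ i, Y i ⟶ V),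
      (∀ i, T.arrows (g i)) ∧ Sieve.ofArrows Y g ∈ K V ∧ ∀ i, VanD f P d (Y i))
    (N : ℤ) (h4 : ∀ M, P M → ∀ p : ℕ, N < (p : ℤ) → IsZero ((f.Rpush p).obj M))
    (X : DerivedCategory (ModSite.Mod O_C)) (hX : WSerre.cohIn P X) (n : ℕ) (j : ℤ)
    (hj : N - (n : ℤ) ≤ j) :
    IsIso ((DerivedCategory.homologyFunctor (ModSite.Mod O_D) j).map
      ((SiteCmp.RpushD f).map ((DerivedCategory.TStructure.t.truncGEπ (-(n : ℤ))).app X))) :=
  (isIso_homology_RpushD_iff f _ j).2 (isIso_homology_Rres_truncπ' f P X hX B hB hA B' hB' hV j n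
    fun m hm => isIso_homology_Rres_truncMap' f P N h4 X hX j m (by omega))


/-- Vanishing of derived direct images above a bound. -/
theorem isZero_homology_RpushD_of_vanish [HasInjectiveResolutions (ModSite.Mod O_C)]
    (B : Set C)
    (hB : ∀ U : C, ∃ (ι : Type u) (Y : ι → C) (g : ∀ i, Y i ⟶ U),
      Sieve.ofArrows Y g ∈ J U ∧ ∀ i, Y i ∈ B)
    (hA : ∀ V ∈ B, ∃ d : ℕ, ∀ T ∈ J V, ∃ (ι : Type u) (Y : ι → C) (g : ∀ i, Y i ⟶ V),
      (∀ i, T.arrows (g i)) ∧ Sieve.ofArrows Y g ∈ J V ∧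
      ∀ (i : ι) (F : ModSite.Mod O_C), P F → ∀ k : ℕ, d < k → Subsingleton (ModSite.HU O_C F k (Y i)))
    (B' : Set D)
    (hB' : ∀ U : D, ∃ (ι : Type u) (Y : ι → D) (g : ∀ i, Y i ⟶ U),
      Sieve.ofArrows Y g ∈ K U ∧ ∀ i, Y i ∈ B')
    (hV : ∀ V ∈ B', ∃ d : ℤ, ∀ T ∈ K V, ∃ (ι : Type u) (Y : ι → D) (g : ∀ i, Y i ⟶ V),
      (∀ i, T.arrows (g i)) ∧ Sieve.ofArrows Y g ∈ K V ∧ ∀ i, VanD f P d (Y i))
    (N : ℤ) (h4 : ∀ M, P M → ∀ p : ℕ, N < (p : ℤ) → IsZero ((f.Rpush p).obj M))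
    (G : DerivedCategory (ModSite.Mod O_C))
    (hG : ∀ q, P ((DerivedCategory.homologyFunctor (ModSite.Mod O_C) q).obj G)) (i₀ : ℤ)
    (h0 : ∀ q, i₀ ≤ q → IsZero ((DerivedCategory.homologyFunctor (ModSite.Mod O_C) q).obj G))
    (i : ℤ) (hi : i₀ + N ≤ i) :
    IsZero ((DerivedCategory.homologyFunctor (ModSite.Mod O_D) i).obj ((SiteCmp.RpushD f).obj G)) := by
  haveI : (Rres f).IsTriangulated := isTriangulated_res_map f.push
  let G' : DerivedCategory (ModSite.Mod O_C) := G⟦i₀⟧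
  have hh : ∀ q, Nonempty ((DerivedCategory.homologyFunctor (ModSite.Mod O_C) q).obj G' ≅
      (DerivedCategory.homologyFunctor (ModSite.Mod O_C) (q + i₀)).obj G) := fun q =>
    ⟨((DerivedCategory.homologyFunctor (ModSite.Mod O_C) 0).shiftIso i₀ q (q + i₀) (by omega)).app G⟩
  have hG' : WSerre.cohIn P G' := fun q => P.prop_of_iso (hh q).some.symm (hG _)
  have h1 := isIso_homology_RpushD_truncπ' f P B hB hA B' hB' hV N h4 G' hG' 0 (i - i₀) (by omega)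
  set T := (DerivedCategory.TStructure.t.truncGE (-((0 : ℕ) : ℤ))).obj G'
  have hT : IsZero T := DerTrunc.isZero_of_forall T fun q => by
    by_cases hq : q < 0
    · exact DerivedCategory.isZero_of_isGE T (-((0 : ℕ) : ℤ)) q (by omega)
    · exact (h0 (q + i₀) (by omega)).of_iso
        ((@asIso _ _ _ _ _ (DerTrunc.isIso_homology_truncGEπ G' _ q (by omega))).symm ≪≫ (hh q).some)
  have h2 : IsZero ((DerivedCategory.homologyFunctor (ModSite.Mod O_D) (i - i₀)).obj ((SiteCmp.RpushD f).obj G')) :=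
    (Functor.map_isZero _ (((Rres f).map_isZero hT).of_iso ((rpushDIso f).app T))).of_iso (@asIso _ _ _ _ _ h1)
  let e := ((DerivedCategory.homologyFunctor (ModSite.Mod O_D) 0).shiftIso i₀ (i - i₀) i (by omega)).app
    ((Rres f).obj G)
  exact h2.of_iso ((DerivedCategory.homologyFunctor _ i).mapIso ((rpushDIso f).app G) ≪≫ e.symm ≪≫
    (DerivedCategory.homologyFunctor _ _).mapIso (((Rres f).commShiftIso i₀).app G).symm ≪≫
    ((DerivedCategory.homologyFunctor _ _).mapIso ((rpushDIso f).app G')).symm)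

end GrothLib.RpushD7
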