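import Groth.Agent.Lib.FPushQC7.Crit
import Groth.Agent.Lib.RpushD7.Classes
import Groth.Agent.Lib.QCoh.Affine
import Groth.Agent.Lib.QCoh.FT

/-!
# Modules pushed forward from a level
-/

set_option autoImplicit false
set_option linter.style.haveILetI false
set_option linter.unusedSectionVars false
set_option maxHeartbeats 1000000
set_option backward.isDefEq.respectTransparency false
universe u

open CategoryTheory CategoryTheory.Limits AlgebraicGeometry TopologicalSpace Opposite

noncomputable section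

namespace GrothLib.RpushD7

open GrothLib.FMod7 GrothLib.FCat7

variable {𝔛 : FSch.Sys.{u}} {h : 𝔛.IsFormal} (n : ℕ) (G : (𝔛.X n).Modules)

theorem killed_level {U : (𝔛.X 0).Opens} (s : ModSite.sect ((FSch.levelMor 𝔛 h n).push.obj G) U) : Killed n s :=
  fun V g a ha => by
    show proj 𝔛 h V n a • (show Γ(G, 𝔛.lvU h n V) from _) = 0
    rw [show proj 𝔛 h V n a = 0 from RingHom.mem_ker.1 ha, zero_smul]

theorem isTorsF_level : FTors.IsTorsF 𝔛 h ((FSch.levelMor 𝔛 h n).push.obj G) :=
  fun U s => FTors.IsTorsSect.of_killedBy (killed_level n G s)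

variable (hN : 𝔛.IsLocNoethFormal) [G.IsQuasicoherent]
include hN

theorem isQC_level {W : (𝔛.X 0).Opens} (hW : IsAffineOpen W) :
    IsQC ((FSch.levelMor 𝔛 h n).push.obj G) W := by
  have hV : IsAffineOpen (𝔛.lvU h n W) := FFormal7.isAffineOpen_lvU 𝔛 h hW n
  refine FPushQC7.isQC_of_localises hN hW (fun s => ⟨n, killed_level n G s⟩)
    (fun g (y : Γ(G, 𝔛.lvU h n W)) hy => ?_) fun g (x : Γ(G, 𝔛.lvU h n (sBasic g))) => ?_
  · have e := lvU_sBasic hN hW n g
    obtain ⟨k, hk⟩ := (QCoh.smulLift_and_smulSep_of_isAffineOpen hV G (proj 𝔛 h W n g)).2 y (by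
      have h0 : G.presheaf.map (homOfLE (show 𝔛.lvU h n (sBasic g) ≤ 𝔛.lvU h n W from
        ((Opens.map (𝔛.gInv h n)).map (homOfLE (sBasic_le g))).le)).op y = 0 := hy
      have h1 := congrArg (G.presheaf.map (homOfLE e.ge).op) h0
      rw [map_zero, ← ConcreteCategory.comp_apply, ← Functor.map_comp] at h1
      exact h1)
    refine ⟨k, ?_⟩
    show proj 𝔛 h W n (g ^ k) • y = 0
    rw [map_pow]
    exact hk
  · have e := lvU_sBasic hN hW n g
    obtain ⟨k, y, hy⟩ := (QCoh.smulLift_and_smulSep_of_isAffineOpen hV G (proj 𝔛 h W n g)).1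
      (G.presheaf.map (homOfLE e.ge).op x)
    refine ⟨k, y, ?_⟩
    show G.presheaf.map (homOfLE (show 𝔛.lvU h n (sBasic g) ≤ 𝔛.lvU h n W from
        ((Opens.map (𝔛.gInv h n)).map (homOfLE (sBasic_le g))).le)).op y =
      proj 𝔛 h (sBasic g) n (rRes (sBasic_le g) g ^ k) • x
    have := congrArg (G.presheaf.map (homOfLE e.le).op) hy
    rw [← ConcreteCategory.comp_apply, ← Functor.map_comp] at this
    refine this.trans ((Scheme.Modules.map_smul _ _ _ _).trans ?_)
    rw [← ConcreteCategory.comp_apply, ← Functor.map_comp, map_pow,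
      show (homOfLE e.ge).op ≫ (homOfLE e.le).op = 𝟙 _ from Subsingleton.elim _ _, CategoryTheory.Functor.map_id,
      map_pow]
    refine congrArg (fun r => r ^ k • x) ?_
    rw [← ConcreteCategory.comp_apply, ← Functor.map_comp]
    exact (proj_res h W (sBasic_le g) n g).symm

theorem isQuasicoherent_level : SheafOfModules.IsQuasicoherent.{u} ((FSch.levelMor 𝔛 h n).push.obj G) :=
  isQuasicoherent_of_isQC fun p => by
    obtain ⟨W, hW, hp, -⟩ := exists_isAffineOpen_mem_and_subset (X := 𝔛.X 0) (x := p) (U := ⊤) trivial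
    exact ⟨W, hp, isQC_level n G hN hW⟩

theorem isCohF_level (hG : G.IsFiniteType) : FSch.IsCohF 𝔛 h ((FSch.levelMor 𝔛 h n).push.obj G) := by
  classical
  refine isCohF_of_isQC_finite hN fun W hW => ⟨isQC_level n G hN hW, ?_⟩
  haveI := hN.2.2 n
  have hV : IsAffineOpen (𝔛.lvU h n W) := FFormal7.isAffineOpen_lvU 𝔛 h hW n
  haveI := QCoh.moduleFinite_of_isFiniteType G hG hV
  obtain ⟨l, z, hz⟩ := Submodule.fg_iff_exists_fin_generating_family.1
    (Module.Finite.fg_top (R := Γ(𝔛.X n, 𝔛.lvU h n W)) (M := Γ(G, 𝔛.lvU h n W)))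
  let z' : Fin l → ModSite.sect ((FSch.levelMor 𝔛 h n).push.obj G) W := z
  refine ⟨⟨Finset.univ.image z', eq_top_iff.2 fun t _ => ?_⟩⟩
  obtain ⟨c, hc⟩ := (Submodule.mem_span_range_iff_exists_fun _).1
    (hz ▸ Submodule.mem_top : (show Γ(G, 𝔛.lvU h n W) from t) ∈ Submodule.span Γ(𝔛.X n, 𝔛.lvU h n W) (Set.range z))
  choose a ha using fun i => proj_surjective (h := h) hN hW n (c i)
  have ht : t = ∑ i, a i • z' i := by
    refine hc.symm.trans (Finset.sum_congr rfl fun i _ => ?_)
    show c i • z i = proj 𝔛 h W n (a i) • z i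
    rw [ha]
  rw [ht]
  exact Submodule.sum_mem _ fun i _ => Submodule.smul_mem _ (a i)
    (Submodule.subset_span (Finset.mem_coe.2 (Finset.mem_image_of_mem _ (Finset.mem_univ i))))

end GrothLib.RpushD7
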