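import Groth.Agent.Lib.RpushD7.Level
import Groth.Agent.Lib.RpushD7.IndClass
import Groth.Agent.Lib.FPushQC7.Coh
import Groth.Agent.Lib.FCoh7.LevelRpush
import Groth.Agent.Lib.Cohom.RpushModules
import Groth.Agent.Lib.FCat7.QCTInd
import Groth.Agent.Lib.FCat7.FinPres
import Groth.Agent.Lib.FCat7.Vanish
import Groth.Agent.Lib.RpushD7.Colim
import Groth.Prelude.Def_FTors2

/-!
# Higher direct images of quasi-coherent torsion modules
-/

set_option autoImplicit false
set_option linter.style.haveILetI false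
set_option linter.unusedSectionVars false
set_option maxHeartbeats 1000000
universe u

open CategoryTheory CategoryTheory.Limits AlgebraicGeometry TopologicalSpace Opposite

noncomputable section

namespace GrothLib.RpushD7

open GrothLib.FMod7 GrothLib.FCat7

section Classes

variable {𝔛 : FSch.Sys.{u}} {h : 𝔛.IsFormal} (hN : 𝔛.IsLocNoethFormal)
include hN

theorem ind_of_isQCT {M : FSch.ModF 𝔛 h} (hM : FTors.IsQCT 𝔛 h M) :
    (ObjectProperty.ind.{u} fun G : FSch.ModF 𝔛 h => FSch.IsCohF 𝔛 h G) M := by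
  haveI := hM.2
  exact ind_of_tors hN hM.1

theorem isQCT_zero : ∃ Z : FSch.ModF 𝔛 h, IsZero Z ∧ FTors.IsQCT 𝔛 h Z ∧ FSch.IsCohF 𝔛 h Z := by
  obtain ⟨Z, hZ, hc⟩ := isCohF_zero (h := h) hN
  obtain ⟨O0, hO⟩ : ∃ O0 : (𝔛.X 0).Modules, IsZero O0 := HasZeroObject.zero
  haveI : Mono (0 : Z ⟶ (FSch.levelMor 𝔛 h 0).push.obj O0) := ⟨fun _ _ _ => hZ.eq_of_tgt _ _⟩
  exact ⟨Z, hZ, ⟨isTorsF_of_mono (0 : Z ⟶ _) (isTorsF_level 0 O0),
    isQuasicoherent_of_ind hN (ObjectProperty.le_ind _ Z hc)⟩, hc⟩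

theorem isQCT_of_iso {F G : FSch.ModF 𝔛 h} (e : F ≅ G) (hF : FTors.IsQCT 𝔛 h F) : FTors.IsQCT 𝔛 h G := by
  haveI := hF.2
  exact ⟨isTorsF_of_mono e.inv hF.1, isQuasicoherent_of_iso hN e⟩

theorem isQCT_kernel {F G : FSch.ModF 𝔛 h} (φ : F ⟶ G) (hF : FTors.IsQCT 𝔛 h F) (hG : FTors.IsQCT 𝔛 h G) :
    FTors.IsQCT 𝔛 h (kernel φ) := by
  haveI := hF.2
  haveI := hG.2
  exact ⟨isTorsF_of_mono (kernel.ι φ) hF.1, isQuasicoherent_kernel' hN φ⟩

theorem isQCT_cokernel {F G : FSch.ModF 𝔛 h} (φ : F ⟶ G) (hF : FTors.IsQCT 𝔛 h F) (hG : FTors.IsQCT 𝔛 h G) :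
    FTors.IsQCT 𝔛 h (cokernel φ) := by
  haveI := hF.2
  haveI := hG.2
  exact ⟨isTorsF_of_epi (cokernel.π φ) hG.1, isQuasicoherent_cokernel hN φ⟩

/-- Quasi-coherent torsion modules form a weak Serre class. -/
theorem isWeakSerre_qct : WSerre.IsWeakSerre (FTors.IsQCT 𝔛 h) where
  exists_zero := by
    obtain ⟨Z, hZ, hq, -⟩ := isQCT_zero (h := h) hN
    exact ⟨Z, hZ, hq⟩
  kernels_le := fun K hK => by
    obtain ⟨f, k, hk, hf⟩ := hK
    exact isQCT_of_iso hN (IsLimit.conePointUniqueUpToIso (kernelIsKernel f) hk) (isQCT_kernel hN f hf.1 hf.2)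
  cokernels_le := fun K hK => by
    obtain ⟨f, k, hk, hf⟩ := hK
    exact isQCT_of_iso hN (IsColimit.coconePointUniqueUpToIso (cokernelIsCokernel f) hk) (isQCT_cokernel hN f hf.1 hf.2)
  prop_X₂_of_shortExact := fun {T} hT h₁ h₃ => by
    haveI := h₁.2
    haveI := h₃.2
    exact ⟨isTorsF_extension hN hT h₁.1 h₃.1, isQuasicoherent_extension hN hT⟩

/-- Coherent torsion modules form a weak Serre class. -/
theorem isWeakSerre_qct_coh :
    WSerre.IsWeakSerre (fun M : FSch.ModF 𝔛 h => FTors.IsQCT 𝔛 h M ∧ FSch.IsCohF 𝔛 h M) where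
  exists_zero := isQCT_zero hN
  kernels_le := fun K hK => by
    obtain ⟨f, k, hk, hf⟩ := hK
    haveI := hf.1.2
    haveI := hf.2.2
    haveI := isCohF_kernel hN f
    exact ⟨isQCT_of_iso hN (IsLimit.conePointUniqueUpToIso (kernelIsKernel f) hk) (isQCT_kernel hN f hf.1.1 hf.2.1),
      @isCohF_of_iso' _ _ hN _ _ (IsLimit.conePointUniqueUpToIso (kernelIsKernel f) hk) this⟩
  cokernels_le := fun K hK => by
    obtain ⟨f, k, hk, hf⟩ := hK
    haveI := hf.1.2
    haveI := hf.2.2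
    haveI := isCohF_cokernel hN f
    exact ⟨isQCT_of_iso hN (IsColimit.coconePointUniqueUpToIso (cokernelIsCokernel f) hk)
        (isQCT_cokernel hN f hf.1.1 hf.2.1),
      @isCohF_of_iso' _ _ hN _ _ (IsColimit.coconePointUniqueUpToIso (cokernelIsCokernel f) hk) this⟩
  prop_X₂_of_shortExact := fun {T} hT h₁ h₃ => by
    haveI := h₁.1.2
    haveI := h₃.1.2
    haveI := h₁.2
    haveI := h₃.2
    exact ⟨⟨isTorsF_extension hN hT h₁.1.1 h₃.1.1, isQuasicoherent_extension hN hT⟩, isCohF_extension hN hT⟩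

/-- A quasi-coherent torsion module is a filtered colimit of coherent torsion modules. -/
theorem exists_coh_tors_presentation {M : FSch.ModF 𝔛 h} (hM : FTors.IsQCT 𝔛 h M) :
    ∃ (J : Type u) (_ : SmallCategory J) (_ : IsFiltered J) (pres : ColimitPresentation J M),
      ∀ j, FTors.IsQCT 𝔛 h (pres.diag.obj j) ∧ FSch.IsCohF 𝔛 h (pres.diag.obj j) := by
  haveI := hM.2
  obtain ⟨J, iJ, iF, p, hp⟩ := ind_of_isQCT hN hM
  let D' : J ⥤ FSch.ModF 𝔛 h :=
    { obj := fun j => image (p.ι.app j)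
      map := fun {i j} a => image.lift
        { I := image (p.ι.app j), m := image.ι (p.ι.app j), e := p.diag.map a ≫ factorThruImage (p.ι.app j),
          fac := by
            rw [Category.assoc, image.fac]
            exact (p.ι.naturality a).trans (Category.comp_id _) }
      map_id := fun j => by
        rw [← cancel_mono (image.ι (p.ι.app j)), Category.id_comp]
        exact image.lift_fac _
      map_comp := fun {i j k} a b => by
        refine (cancel_mono (image.ι (p.ι.app k))).1 (Eq.trans ?_ (Category.assoc _ _ _).symm)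
        refine (image.lift_fac _).trans ?_
        refine Eq.trans ?_ (congrArg (_ ≫ ·) (image.lift_fac _)).symm
        exact (image.lift_fac _).symm }
  let α : p.diag ⟶ D' :=
    { app := fun j => factorThruImage (p.ι.app j)
      naturality := fun i j a => by
        rw [← cancel_mono (image.ι (p.ι.app j)), Category.assoc, image.fac, Category.assoc]
        refine ((p.ι.naturality a).trans (Category.comp_id _)).trans ?_
        exact ((congrArg (factorThruImage (p.ι.app i) ≫ ·) (image.lift_fac _)).trans (image.fac _)).symm }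
  let β : D' ⟶ (Functor.const J).obj M :=
    { app := fun j => image.ι (p.ι.app j)
      naturality := fun i j a => (image.lift_fac _).trans (Category.comp_id _).symm }
  let hβ : IsColimit (Cocone.mk M β) :=
    { desc := fun s => p.isColimit.desc ((Cocone.precompose α).obj s)
      fac := fun s j => by
        rw [← cancel_epi (α.app j), ← Category.assoc]
        refine Eq.trans ?_ (p.isColimit.fac ((Cocone.precompose α).obj s) j)
        exact congrArg (· ≫ _) (image.fac _)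
      uniq := fun s m hm => by
        refine p.isColimit.uniq ((Cocone.precompose α).obj s) m fun j => ?_
        refine Eq.trans ?_ (congrArg (α.app j ≫ ·) (hm j))
        exact (congrArg (· ≫ m) (image.fac _).symm).trans (Category.assoc _ _ _) }
  refine ⟨J, iJ, iF, ⟨D', β, hβ⟩, fun j => ?_⟩
  haveI : FSch.IsCohF 𝔛 h (p.diag.obj j) := hp j
  haveI : SheafOfModules.IsQuasicoherent.{u} (p.diag.obj j) := isQuasicoherent_of_ind hN (ObjectProperty.le_ind _ _ (hp j))
  let φ : p.diag.obj j ⟶ M := p.ι.app j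
  haveI : SheafOfModules.IsQuasicoherent.{u} (kernel φ) := isQuasicoherent_kernel' hN φ
  haveI := isCohF_of_mono hN (kernel.ι φ)
  haveI := isCohF_cokernel hN (kernel.ι φ)
  let e : cokernel (kernel.ι φ) ≅ image φ :=
    asIso (Abelian.coimageImageComparison φ) ≪≫ Abelian.imageIsoImage φ
  haveI : FSch.IsCohF 𝔛 h (image φ) := isCohF_of_iso' hN e
  exact ⟨⟨isTorsF_of_mono (image.ι φ) hM.1, isQuasicoherent_of_ind hN (ObjectProperty.le_ind _ _ ‹_›)⟩, ‹_›⟩

omit hN in
theorem compactSpace_level (h : 𝔛.IsFormal) [CompactSpace (𝔛.X 0)] (n : ℕ) : CompactSpace (𝔛.X n) :=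
  (𝔛.levelHomeo h n).compactSpace

end Classes

variable {𝔛 𝔜 : FSch.Sys.{u}} {h : 𝔛.IsFormal} {h' : 𝔜.IsFormal} (f : 𝔛 ⟶ 𝔜)
  (hN : 𝔛.IsLocNoethFormal) (hN' : 𝔜.IsLocNoethFormal) [HasInjectiveResolutions (FSch.ModF 𝔛 h)]
include hN hN'

/-- Higher direct images of coherent torsion modules. -/
theorem exists_rpush_level [CompactSpace (𝔛.X 0)] [CompactSpace (𝔜.X 0)] (M : FSch.ModF 𝔛 h)
    (hM : FTors.IsQCT 𝔛 h M) (hc : FSch.IsCohF 𝔛 h M) (p : ℕ) :
    ∃ (n : ℕ) (G : (𝔜.X n).Modules), G.IsQuasicoherent ∧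
      (IsProper ((f : FSch.Hom 𝔛 𝔜).app 0) → G.IsFiniteType) ∧
      Nonempty (((FSch.RpushF f h h' p).obj M) ≅ (FSch.levelMor 𝔜 h' n).push.obj G) := by
  haveI := noetherianSpace_X0 hN
  haveI := hc
  obtain ⟨n, hk⟩ := FPushQC7.exists_level_killed hN hM.1
  haveI := FPushQC7.isIso_unit_level hN hk
  haveI := SheafCoh.enoughInjectives_sheafOfModules (𝔛.X n).ringCatSheaf
  haveI := hN.2.2 n
  haveI := hN'.2.2 n
  haveI := compactSpace_level h n
  let q := (f : FSch.Hom 𝔛 𝔜).app n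
  haveI : AlgebraicGeometry.IsNoetherian (𝔛.X n) := {}
  haveI : QuasiCompact q := inferInstance
  haveI : QuasiSeparated q := inferInstance
  let G₀ : (𝔛.X n).Modules := (pullSys h M).F n
  have hG₀ : Coh.IsCoh G₀ := isCoh_pullSys (F := M) n
  haveI := hG₀.1
  obtain ⟨e⟩ := FCoh7.nonempty_rpushF_level_iso h f h' n p G₀
  refine ⟨n, (Coh.Rpush q p).obj G₀, Cohom.isQuasicoherent_Rpush q G₀ p, fun hp => ?_,
    ⟨(FSch.RpushF f h h' p).mapIso (asIso ((FSch.levelMor 𝔛 h n).adj.unit.app M)) ≪≫ e⟩⟩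
  haveI : IsProper q := FPushQC7.isProper_app hN hN' f n
  exact (Cohom.isCoh_Rpush q G₀ hG₀ p).2

theorem isCohF_rpushF_of_qct [CompactSpace (𝔛.X 0)] [CompactSpace (𝔜.X 0)]
    [IsProper ((f : FSch.Hom 𝔛 𝔜).app 0)] (M : FSch.ModF 𝔛 h)
    (hM : FTors.IsQCT 𝔛 h M ∧ FSch.IsCohF 𝔛 h M) (p : ℕ) :
    FSch.IsCohF 𝔜 h' ((FSch.RpushF f h h' p).obj M) := by
  obtain ⟨n, G, hG, hft, ⟨e⟩⟩ := exists_rpush_level (h' := h') f hN hN' M hM.1 hM.2 p
  haveI := hG
  haveI := isCohF_level (h := h') n G hN' (hft inferInstance)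
  exact isCohF_of_iso' hN' e.symm

end GrothLib.RpushD7
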