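import Groth.Agent.Lib.RpushD7.Iso
import Groth.Agent.Lib.RpushD7.Bound
import Groth.Agent.Lib.FCoh7.RpushFormal
import Groth.Agent.Lib.ColimCoh.Top
import Groth.Agent.Lib.ColimCoh.RpushColim
import Groth.Prelude.Def_FSch5
import Groth.Prelude.Def_SiteCmp

/-!
# Cohomological bounds for direct images of modules on formal schemes
-/

set_option autoImplicit false
set_option linter.style.haveILetI false
set_option linter.unusedSectionVars false
set_option maxHeartbeats 800000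
universe u

open CategoryTheory CategoryTheory.Limits AlgebraicGeometry TopologicalSpace Opposite

attribute [local instance] HasDerivedCategory.standard

noncomputable section

namespace GrothLib.RpushD7

open GrothLib.SiteDer

variable {𝔛 𝔜 : FSch.Sys.{u}} {h : 𝔛.IsFormal} {h' : 𝔜.IsFormal}
  (P : ObjectProperty (FSch.ModF 𝔛 h)) [P.IsClosedUnderIsomorphisms] (f : 𝔛 ⟶ 𝔜)

/-- The class has no higher cohomology on affine opens. -/
def Acyc : Prop :=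
  ∀ M, P M → ∀ W : (𝔛.X 0).Opens, IsAffineOpen W → ∀ k : ℕ, Subsingleton (Sheaf.H' (ModSite.toAb M) (k + 1) W)

/-- A basis of the base whose preimages have cohomological dimension at most `N` on the class. -/
def PreBound (N : ℕ) : Prop :=
  ∃ B' : Set (Opens (𝔜.X 0)), (∀ (U : Opens (𝔜.X 0)) (y : 𝔜.X 0), y ∈ U → ∃ V ∈ B', y ∈ V ∧ V ≤ U) ∧
    ∀ V ∈ B', ∀ M, P M → ∀ k : ℕ, N < k →
      Subsingleton (Sheaf.H' (ModSite.toAb M) k ((f : FSch.Hom 𝔛 𝔜).app 0 ⁻¹ᵁ V))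

theorem exists_refine {T : TopCat.{u}} {B : Set (Opens T)}
    (hB : ∀ (U : Opens T) (y : T), y ∈ U → ∃ V ∈ B, y ∈ V ∧ V ≤ U) (V : Opens T) (S : Sieve V)
    (hS : S ∈ Opens.grothendieckTopology T V) :
    ∃ (ι : Type u) (Y : ι → Opens T) (g : ∀ i, Y i ⟶ V),
      (∀ i, S.arrows (g i)) ∧ Sieve.ofArrows Y g ∈ Opens.grothendieckTopology T V ∧ ∀ i, Y i ∈ B := by
  refine ⟨{W : Opens T // W ∈ B ∧ ∃ k : W ⟶ V, S.arrows k}, fun W => W.1, fun W => W.2.2.choose,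
    fun W => W.2.2.choose_spec, fun y hy => ?_, fun W => W.2.1⟩
  obtain ⟨U, g, hg, hyU⟩ := hS y hy
  obtain ⟨W, hW, hyW, hWU⟩ := hB U y hyU
  let w : {W : Opens T // W ∈ B ∧ ∃ k : W ⟶ V, S.arrows k} :=
    ⟨W, hW, homOfLE hWU ≫ g, S.downward_closed hg _⟩
  exact ⟨W, w.2.2.choose, Sieve.ofArrows_mk _ _ w, hyW⟩

variable {P f}

theorem isZero_rpush_of_preBound [HasInjectiveResolutions (FSch.ModF 𝔛 h)] {N : ℕ} (hb : PreBound P f N)
    (M : FSch.ModF 𝔛 h) (hM : P M) (p : ℕ) (hp : (N : ℤ) < (p : ℤ)) :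
    IsZero (((FSch.homMor f h h').Rpush p).obj M) := by
  obtain ⟨B', hB', hV⟩ := hb
  obtain ⟨e⟩ := FCoh7.nonempty_rpushModIso (FSch.homMor f h h') p
  let Q : (Opens (𝔜.X 0).toTopCat)ᵒᵖ ⥤ AddCommGrpCat.{u} :=
    (FSch.homMor f h h').fn.op ⋙ CategoryTheory.Sheaf.cohomologyPresheaf.{u} (ModSite.toAb M) p
  let J := Opens.grothendieckTopology (𝔜.X 0).toTopCat
  have hP : IsIso ((presheafToSheaf J AddCommGrpCat.{u}).map (0 : Q ⟶ (Functor.const _).obj (AddCommGrpCat.of PUnit))) := by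
    refine ColimCoh.isIso_sheafify_of_iso_on_class J _ fun V => ?_
    obtain ⟨ι, Y, g, -, hcov, hY⟩ := exists_refine hB' V ⊤ (J.top_mem V)
    refine ⟨ι, Y, g, hcov, fun i => ?_⟩
    haveI : Subsingleton (Q.obj (op (Y i))) := hV _ (hY i) M hM p (by omega)
    haveI : Subsingleton (((Functor.const (Opens (𝔜.X 0).toTopCat)ᵒᵖ).obj
        (AddCommGrpCat.of PUnit.{u + 1})).obj (op (Y i))) := inferInstanceAs (Subsingleton PUnit)
    exact (ConcreteCategory.isIso_iff_bijective _).2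
      ⟨fun a b _ => Subsingleton.elim a b, fun b => ⟨0, Subsingleton.elim _ b⟩⟩
  have hz : IsZero ((presheafToSheaf J AddCommGrpCat.{u}).obj ((Functor.const _).obj (AddCommGrpCat.of PUnit))) := by
    refine Functor.map_isZero _ (Functor.isZero _ fun _ => ?_)
    haveI : Subsingleton (AddCommGrpCat.of PUnit.{u + 1}) := inferInstanceAs (Subsingleton PUnit)
    exact AddCommGrpCat.isZero_of_subsingleton (AddCommGrpCat.of PUnit.{u + 1})
  have h0 : IsZero ((SheafOfModules.toSheaf _).obj (((FSch.homMor f h h').Rpush p).obj M)) :=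
    IsZero.of_iso (IsZero.of_iso hz (asIso ((presheafToSheaf J AddCommGrpCat.{u}).map
      (0 : Q ⟶ (Functor.const _).obj (AddCommGrpCat.of PUnit))))) (e.app M)
  rw [IsZero.iff_id_eq_zero] at h0 ⊢
  apply (SheafOfModules.toSheaf _).map_injective
  exact ((SheafOfModules.toSheaf _).map_id _).trans (h0.trans ((SheafOfModules.toSheaf _).map_zero _ _).symm)

theorem site_data (hA : Acyc P) {N : ℕ} (hb : PreBound P f N) :
    ∃ (B : Set (Opens (𝔛.X 0))) (B' : Set (Opens (𝔜.X 0))),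
      (∀ U, ∃ (ι : Type u) (Y : ι → Opens (𝔛.X 0)) (g : ∀ i, Y i ⟶ U),
        Sieve.ofArrows Y g ∈ Opens.grothendieckTopology _ U ∧ ∀ i, Y i ∈ B) ∧
      (∀ V ∈ B, ∃ d : ℕ, ∀ T ∈ Opens.grothendieckTopology _ V, ∃ (ι : Type u) (Y : ι → Opens (𝔛.X 0)) (g : ∀ i, Y i ⟶ V),
        (∀ i, T.arrows (g i)) ∧ Sieve.ofArrows Y g ∈ Opens.grothendieckTopology _ V ∧
        ∀ (i : ι) (F : FSch.ModF 𝔛 h), P F → ∀ k : ℕ, d < k → Subsingleton (ModSite.HU (𝔛.Osh h) F k (Y i))) ∧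
      (∀ U, ∃ (ι : Type u) (Y : ι → Opens (𝔜.X 0)) (g : ∀ i, Y i ⟶ U),
        Sieve.ofArrows Y g ∈ Opens.grothendieckTopology _ U ∧ ∀ i, Y i ∈ B') ∧
      (∀ V ∈ B', ∃ d : ℤ, ∀ T ∈ Opens.grothendieckTopology _ V, ∃ (ι : Type u) (Y : ι → Opens (𝔜.X 0)) (g : ∀ i, Y i ⟶ V),
        (∀ i, T.arrows (g i)) ∧ Sieve.ofArrows Y g ∈ Opens.grothendieckTopology _ V ∧
        ∀ i, VanD (FSch.homMor f h h') P d (Y i)) := by
  obtain ⟨B', hB', hV⟩ := hb
  have hB : ∀ (U : Opens (𝔛.X 0)) (y : 𝔛.X 0), y ∈ U → ∃ V ∈ {W : Opens (𝔛.X 0) | IsAffineOpen W}, y ∈ V ∧ V ≤ U :=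
    fun U y hy => by
      obtain ⟨W, hW, hyW, hWU⟩ := exists_isAffineOpen_mem_and_subset (x := y) (U := U) hy
      exact ⟨W, hW, hyW, hWU⟩
  refine ⟨{W | IsAffineOpen W}, B', fun U => ?_, fun V _ => ⟨0, fun T hT => ?_⟩, fun U => ?_,
    fun V _ => ⟨(N : ℤ), fun T hT => ?_⟩⟩
  · obtain ⟨ι, Y, g, -, hcov, hY⟩ := exists_refine hB U ⊤ (GrothendieckTopology.top_mem _ U)
    exact ⟨ι, Y, g, hcov, hY⟩
  · obtain ⟨ι, Y, g, hT', hcov, hY⟩ := exists_refine hB V T hT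
    refine ⟨ι, Y, g, hT', hcov, fun i F hF k hk => ?_⟩
    obtain ⟨m, rfl⟩ : ∃ m, k = m + 1 := ⟨k - 1, by omega⟩
    exact hA F hF _ (hY i) m
  · obtain ⟨ι, Y, g, -, hcov, hY⟩ := exists_refine hB' U ⊤ (GrothendieckTopology.top_mem _ U)
    exact ⟨ι, Y, g, hcov, hY⟩
  · obtain ⟨ι, Y, g, hT', hcov, hY⟩ := exists_refine hB' V T hT
    exact ⟨ι, Y, g, hT', hcov, fun i => vanD_of_upstairs _ P N (Y i) fun M hM k hk => hV _ (hY i) M hM k hk⟩

variable [SiteCmp.HasRpushD (FSch.homMor f h h')] [HasInjectiveResolutions (FSch.ModF 𝔛 h)]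
  (hA : Acyc P) {N : ℕ} (hb : PreBound P f N)
include hA hb

/-- Derived direct images vanish above the bound. -/
theorem isZero_hMod_RpushD (G : DerivedCategory (FSch.ModF 𝔛 h)) (hG : ∀ q, P (SiteCmp.HMod G q)) (i₀ : ℤ)
    (h0 : ∀ q, i₀ ≤ q → IsZero (SiteCmp.HMod G q)) (i : ℤ) (hi : i₀ + N ≤ i) :
    IsZero (SiteCmp.HMod ((SiteCmp.RpushD (FSch.homMor f h h')).obj G) i) := by
  obtain ⟨B, B', h1, h2, h3, h4⟩ := site_data (h' := h') hA hb
  exact isZero_homology_RpushD_of_vanish (FSch.homMor f h h') P B h1 h2 B' h3 h4 N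
    (isZero_rpush_of_preBound hb) G hG i₀ h0 i hi

/-- Cohomology sheaves of derived direct images in a weak Serre class. -/
theorem hMod_RpushD_mem [WSerre.IsWeakSerre P] (Q : ObjectProperty (FSch.ModF 𝔜 h')) [WSerre.IsWeakSerre Q]
    (h5 : ∀ M, P M → ∀ p : ℕ, Q (((FSch.homMor f h h').Rpush p).obj M))
    (G : DerivedCategory (FSch.ModF 𝔛 h)) (hG : ∀ q, P (SiteCmp.HMod G q)) (i : ℤ) :
    Q (SiteCmp.HMod ((SiteCmp.RpushD (FSch.homMor f h h')).obj G) i) := by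
  obtain ⟨B, B', h1, h2, h3, h4⟩ := site_data (h' := h') hA hb
  obtain ⟨n, hn⟩ : ∃ n : ℕ, (N : ℤ) - (n : ℤ) ≤ i := ⟨((N : ℤ) - i).toNat, by omega⟩
  have hiso := isIso_homology_RpushD_truncπ' (FSch.homMor f h h') P B h1 h2 B' h3 h4 N
    (isZero_rpush_of_preBound hb) G hG n i hn
  have hmem := cohIn_RpushD_of_plus (FSch.homMor f h h') P Q h5
    ((DerivedCategory.TStructure.t.truncGE (-(n : ℤ))).obj G) (-(n : ℤ)) (DerTrunc.cohIn_truncGE P hG _)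
  exact Q.prop_of_iso (@asIso _ _ _ _ _ hiso).symm (hmem i)

end GrothLib.RpushD7
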